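import Groth.Agent.AmpleEmb.Resolution
import Groth.Agent.AmpleLib.ExtendMod
import Groth.Agent.ProjBundleLib.FTQuot
import Groth.Agent.PullbackMod.SuppClosed
import Groth.Agent.PullbackMod.FibreRank
import Groth.Agent.PullbackMod.OpenLocus
import Groth.Agent.K0ResLib.Basic
import Groth.Agent.DCohLib.SPerf
import Groth.Agent.DCohLib.PerfCoh
import Groth.Agent.S4812
import Groth.Agent.CurveLib.Inv
import Groth.Prelude.Def_KRR

/-!
# Ample line bundles give ample elements of K₀
-/

set_option autoImplicit false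
set_option linter.style.haveILetI false
set_option backward.isDefEq.respectTransparency false

universe v u

open CategoryTheory CategoryTheory.Limits AlgebraicGeometry TopologicalSpace Opposite
open Groth.Agent.PullbackMod Groth.Agent.DCohLib Groth.Agent.ParaFLib Groth.Agent.AmpleLib

noncomputable section

namespace Groth.Agent.KRRAmple

variable {X : Scheme.{u}}

theorem stalkLin_secHom (M : X.Modules) (s : Γ(M, ⊤)) (x : X) :
    stalkLin (secHom M s) x (oneG x) = M.presheaf.germ ⊤ x (Opens.mem_top x) s :=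
  (stalkLin_germ (secHom M s) (U := ⊤) x (Opens.mem_top x) _).trans (congrArg _ (sec_secHom s))

/-- The map from a free module given by a finite set of global sections. -/
abbrev genHom (M : X.Modules) (S : Finset Γ(M, ⊤)) : FlatMod.freeMod X S.card ⟶ M :=
  Sigma.desc fun j => secHom M (S.equivFin.symm j).1

theorem genHom_mono (M : X.Modules) {S T : Finset Γ(M, ⊤)} (h : S ⊆ T) :
    ∃ i : FlatMod.freeMod X S.card ⟶ FlatMod.freeMod X T.card, i ≫ genHom M T = genHom M S := by
  let r : Fin S.card → Fin T.card := fun j => T.equivFin ⟨(S.equivFin.symm j).1, h (S.equivFin.symm j).2⟩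
  refine ⟨Sigma.desc fun j => Sigma.ι (fun _ : Fin T.card => Coh.structureModule X) (r j),
    Sigma.hom_ext _ _ fun j => ?_⟩
  rw [Sigma.ι_desc_assoc, Sigma.ι_desc, Sigma.ι_desc]
  simp [r]

theorem surjective_stalk_of_subsingleton_cokernel {A B : X.Modules} (q : A ⟶ B) (y : X)
    (h : Subsingleton ((cokernel q).presheaf.stalk y)) : Function.Surjective (stalkLin q y) := by
  have hz : IsZero ((stkF y).obj (cokernel q)) :=
    @ModuleCat.isZero_of_subsingleton _ _ _ h
  haveI : Epi ((stkF y).map q) :=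
    Preadditive.epi_of_isZero_cokernel _ (hz.of_iso (PreservesCokernel.iso (stkF y) q).symm)
  exact (ModuleCat.epi_iff_surjective ((stkF y).map q)).1 inferInstance

/-- A globally generated finite locally free module on a compact scheme is generated by finitely many sections. -/
theorem exists_epi_freeMod [CompactSpace X] {M : X.Modules} (hM : FlatMod.IsFinLocFree M)
    (hg : Curv2.IsGloballyGenerated M) :
    ∃ (N : ℕ) (p : FlatMod.freeMod X N ⟶ M), Epi p := by
  classical
  obtain ⟨hq, hfp⟩ := isQCoh_and_isFP_of_isFinLocFree M hM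
  haveI := hq
  haveI := hfp
  have hft : CohB1.IsFT M := inferInstanceAs (SheafOfModules.IsFiniteType (R := X.ringCatSheaf) M)
  have hloc : ∀ x : X, ∃ (S : Finset Γ(M, ⊤)) (W : X.Opens), x ∈ W ∧ ∀ y ∈ W,
      Function.Surjective (stalkLin (genHom M S) y) := by
    intro x
    haveI := finite_stalk_of_isFT hft x
    have hs := ProjBundleLib.span_germ_of_isGloballyGenerated hg x
    obtain ⟨t, ht, hts⟩ := (Submodule.fg_span_iff_fg_span_finset_subset _).1
      (hs.symm ▸ Module.Finite.fg_top : (Submodule.span (X.presheaf.stalk x)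
        (Set.range fun σ : Γ(M, ⊤) => M.presheaf.germ ⊤ x (Opens.mem_top x) σ)).FG)
    rw [← Set.image_univ] at ht
    obtain ⟨S, -, hSt⟩ := Finset.subset_set_image_iff.1 ht
    let q := genHom M S
    have hmem : ∀ σ : Γ(M, ⊤), σ ∈ S →
        M.presheaf.germ ⊤ x (Opens.mem_top x) σ ∈ LinearMap.range (stalkLin q x) := fun σ hσ => by
      obtain ⟨j, hj⟩ : ∃ j, (S.equivFin.symm j).1 = σ := ⟨S.equivFin ⟨σ, hσ⟩, by simp⟩
      refine AmpleEmb.range_stalkLin_le (A := Coh.structureModule X)
        (fun j => secHom M (S.equivFin.symm j).1) j (𝟙 _) x ?_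
      rw [Category.id_comp, hj]
      exact ⟨oneG x, stalkLin_secHom M σ x⟩
    haveI : Coh.IsQCoh (cokernel q) :=
      (QCohLib.isQCoh_image q (isQCoh_and_isFP_of_isFinLocFree _ (isFinLocFree_freeMod _)).1 hq).2
    have hQ : CohB1.IsFT (cokernel q) := S4812.isFT_of_epi hft (cokernel.π q)
    have hx : x ∉ CohB1.support (cokernel q) := fun h => h (subsingleton_of_forall_eq 0 fun z => by
      obtain ⟨m, rfl⟩ := (PullbackMod.epi_iff_stalk (cokernel.π q)).1 inferInstance x z
      obtain ⟨w, rfl⟩ : m ∈ LinearMap.range (stalkLin q x) := by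
        have htop : m ∈ Submodule.span (X.presheaf.stalk x) (t : Set (M.presheaf.stalk x)) := by
          rw [← hts, hs]
          exact Submodule.mem_top
        refine Submodule.span_le.2 ?_ htop
        intro z hz
        rw [← hSt, Finset.coe_image] at hz
        obtain ⟨σ, hσ, rfl⟩ := hz
        exact hmem σ hσ
      rw [← LinearMap.comp_apply, ← stalkLin_comp, cokernel.condition,
        (eq_zero_iff_stalk (0 : FlatMod.freeMod X S.card ⟶ cokernel q)).1 rfl x]
      rfl)
    exact ⟨S, ⟨_, (isClosed_support_of_isFT hQ).isOpen_compl⟩, hx, fun y hy =>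
      surjective_stalk_of_subsingleton_cokernel q y (not_not.1 hy)⟩
  choose S W hxW hW using hloc
  obtain ⟨T, hT⟩ := isCompact_univ.elim_finite_subcover (fun x : X => (W x : Set X)) (fun x => (W x).2)
    (fun x _ => Set.mem_iUnion.2 ⟨x, hxW x⟩)
  refine ⟨(T.biUnion S).card, genHom M (T.biUnion S), (epi_iff_stalk _).2 fun y z => ?_⟩
  obtain ⟨x, hxT, hy⟩ := Set.mem_iUnion₂.1 (hT (Set.mem_univ y))
  obtain ⟨i, hi⟩ := genHom_mono M (Finset.subset_biUnion_of_mem S hxT)
  obtain ⟨w, hw⟩ := hW x y hy z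
  rw [← hi, stalkLin_comp] at hw
  exact ⟨_, hw⟩

/-- On a connected scheme a finite locally free module has constant rank. -/
theorem exists_isFinLocFreeOfRank [ConnectedSpace ↥X] {M : X.Modules} (hM : FlatMod.IsFinLocFree M) :
    ∃ n, FlatMod.IsFinLocFreeOfRank n M := by
  obtain ⟨hq, hfp⟩ := isQCoh_and_isFP_of_isFinLocFree M hM
  haveI := hq
  obtain ⟨x₀⟩ : Nonempty ↥X := inferInstance
  refine ⟨fibreRank M x₀, (isFinLocFreeOfRank_iff_freeAt M hfp _).2 fun x => ?_⟩
  obtain ⟨n, hn⟩ := (isFinLocFree_iff_freeAt M hfp).1 hM x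
  rw [(isFinLocFree_isLocallyConstant M hM).apply_eq_of_isPreconnected isPreconnected_univ
    (Set.mem_univ x₀) (Set.mem_univ x), fibreRank_eq_of_freeAt M hn]
  exact hn

variable {K : Type v} [CommRing K] [LambdaRing.LambdaOps K] {P : LambdaRing.PosStructure K}
  {φ : SGA6.Kvb X →+ K}

theorem map_freeMod (hK : KRR.IsModel X K P φ) : ∀ N : ℕ, φ (KRR.cl X (FlatMod.freeMod X N)) = N
  | 0 => by
    have hz : IsZero (FlatMod.freeMod X 0) :=
      (IsZero.iff_id_eq_zero _).2 (Sigma.hom_ext _ _ fun i => i.elim0)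
    let S := ShortComplex.mk (𝟙 (FlatMod.freeMod X 0)) (𝟙 _) (hz.eq_of_src _ _)
    have h := congrArg φ (K0ResLib.clSub_add (P := KRR.vbP X) (S := S)
      { exact := ShortComplex.exact_of_isZero_X₂ _ hz }
      (isFinLocFree_freeMod 0) (isFinLocFree_freeMod 0) (isFinLocFree_freeMod 0))
    rw [map_add, left_eq_add] at h
    exact_mod_cast h
  | N + 1 => by
    let e := freeModBiprod X N 1
    let e1 : FlatMod.freeMod X 1 ≅ Coh.structureModule X :=
      { hom := Sigma.desc fun _ => 𝟙 _
        inv := Sigma.ι (fun _ : Fin 1 => Coh.structureModule X) 0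
        hom_inv_id := Sigma.hom_ext _ _ fun i => by
          obtain rfl : i = 0 := Subsingleton.elim _ _
          simp
        inv_hom_id := by simp }
    let S := ShortComplex.mk ((biprod.inl : FlatMod.freeMod X N ⟶ _) ≫ e.hom)
      (e.inv ≫ biprod.snd ≫ e1.hom) (by simp)
    have hS : S.ShortExact := ShortComplex.shortExact_of_iso
      (S₁ := ShortComplex.mk (biprod.inl : FlatMod.freeMod X N ⟶ _ ⊞ FlatMod.freeMod X 1) biprod.snd biprod.inl_snd)
      (ShortComplex.isoMk (Iso.refl _) e e1 (by simp [S]) (by simp [S]))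
      (ShortComplex.Splitting.ofHasBinaryBiproduct _ _).shortExact
    have hO : FlatMod.IsFinLocFree (Coh.structureModule X) := isFinLocFree_iso e1 (isFinLocFree_freeMod 1)
    have h := congrArg φ (K0ResLib.clSub_add (P := KRR.vbP X) hS
      (isFinLocFree_freeMod N) (isFinLocFree_freeMod (N + 1)) hO)
    rw [map_add] at h
    rw [show φ (KRR.cl X (FlatMod.freeMod X (N + 1))) = _ from h, map_freeMod hK N, hK.map_one]
    push_cast
    rfl

/-- The negative of a globally generated bundle class is positive minus a natural number. -/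
theorem exists_neg_eq [CompactSpace X] [ConnectedSpace ↥X] (hK : KRR.IsModel X K P φ) {G : X.Modules}
    (hG : FlatMod.IsFinLocFree G) (hg : Curv2.IsGloballyGenerated G) :
    ∃ (e : K) (m : ℕ), e ∈ P.pos ∧ -φ (KRR.cl X G) = e - m := by
  obtain ⟨N, p, hp⟩ := exists_epi_freeMod hG hg
  let S := K0ResLib.kerSC p
  have hS : S.ShortExact := K0ResLib.kerSC_shortExact p
  have hker : FlatMod.IsFinLocFree (kernel p) := isFinLocFree_of_shortExact hS (isFinLocFree_freeMod N) hG
  obtain ⟨r, hr⟩ := exists_isFinLocFreeOfRank hker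
  have h := congrArg φ (K0ResLib.clSub_add (P := KRR.vbP X) hS hker (isFinLocFree_freeMod N) hG)
  rw [map_add] at h
  have h' : (N : K) = φ (KRR.cl X (kernel p)) + φ (KRR.cl X G) := (map_freeMod hK N).symm.trans h
  rcases Nat.eq_zero_or_pos r with rfl | hr0
  · let p' : FlatMod.freeMod X N ⊞ FlatMod.freeMod X 1 ⟶ G := biprod.desc p 0
    haveI : Epi p' := epi_of_epi_fac (biprod.inl_desc p (0 : FlatMod.freeMod X 1 ⟶ G))
    let p'' : FlatMod.freeMod X (N + 1) ⟶ G := (freeModBiprod X N 1).inv ≫ p'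
    have hS' := K0ResLib.kerSC_shortExact p''
    have hker' : FlatMod.IsFinLocFree (kernel p'') :=
      isFinLocFree_of_shortExact hS' (isFinLocFree_freeMod (N + 1)) hG
    obtain ⟨r', hr'⟩ := exists_isFinLocFreeOfRank hker'
    have h2 := congrArg φ (K0ResLib.clSub_add (P := KRR.vbP X) hS' hker' (isFinLocFree_freeMod (N + 1)) hG)
    rw [map_add] at h2
    have h2' : ((N + 1 : ℕ) : K) = φ (KRR.cl X (kernel p'')) + φ (KRR.cl X G) :=
      (map_freeMod hK (N + 1)).symm.trans h2
    have ha := congrArg P.aug h'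
    have ha' := congrArg P.aug h2'
    rw [map_add, map_natCast, hK.aug_cl _ _ hr] at ha
    rw [map_add, map_natCast, hK.aug_cl _ _ hr'] at ha'
    refine ⟨φ (KRR.cl X (kernel p'')), N + 1, (hK.mem_pos_iff _).2 ⟨r', _, ?_, hr', rfl⟩, ?_⟩
    · push_cast at ha ha'
      omega
    · linear_combination h2'
  · exact ⟨φ (KRR.cl X (kernel p)), N, (hK.mem_pos_iff _).2 ⟨r, _, hr0, hr, rfl⟩, by linear_combination h'⟩

theorem pow_mul_cl (hK : KRR.IsModel X K P φ) {L : X.Modules} (hL : PicF.IsInvertible L)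
    (hLf : ∀ n, FlatMod.IsFinLocFree (CohB1.tensorPow L n)) :
    ∀ n : ℕ, φ (KRR.cl X (CohB1.tensorPow L n)) = φ (KRR.cl X L) ^ n
  | 0 => by rw [pow_zero]; exact hK.map_one
  | n + 1 => by
    rw [pow_succ, ← pow_mul_cl hK hL hLf n]
    exact (hK.map_mul _ _ (hLf n) (CurveLib.isFinLocFree_of_isInvertible hL)).symm

end Groth.Agent.KRRAmple
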