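import Groth.Agent.KRRAmple.PushClMul
import Groth.Agent.DCohLib.SuppOpen
import Groth.Agent.DCohLib.Pullback

/-!
# Pull-back away from the image of a regular closed immersion
-/

set_option autoImplicit false
set_option linter.style.haveILetI false
set_option backward.isDefEq.respectTransparency false

universe u

open CategoryTheory CategoryTheory.Limits AlgebraicGeometry TopologicalSpace
open Groth.Agent.DCohLib

noncomputable section

namespace Groth.Agent.KRRAmple

variable {X Y Z : Scheme.{u}}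

theorem cl_iso {A B : X.Modules} (e : A ≅ B) (hA : FlatMod.IsFinLocFree A) : KRR.cl X B = KRR.cl X A := by
  have hz : IsZero (kernel e.hom) := isZero_kernel_of_mono e.hom
  have h0 : KRR.vbP X (kernel e.hom) := isFinLocFree_of_isZero hz
  have hB : KRR.vbP X B := isFinLocFree_iso e hA
  have h := K0ResLib.clSub_add (P := KRR.vbP X) (K0ResLib.kerSC_shortExact e.hom) h0 hA hB
  have hS : (ShortComplex.mk (0 : kernel e.hom ⟶ kernel e.hom) (0 : kernel e.hom ⟶ kernel e.hom) zero_comp).ShortExact :=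
    { exact := ShortComplex.exact_of_isZero_X₂ _ hz
      mono_f := ⟨fun _ _ _ => hz.eq_of_tgt _ _⟩
      epi_g := ⟨fun _ _ _ => hz.eq_of_src _ _⟩ }
  rw [show KZero.clSub (KRR.vbP X) (kernel e.hom) = 0 by simpa using K0ResLib.clSub_add (P := KRR.vbP X) hS h0 h0 h0,
    zero_add] at h
  exact h.symm

theorem cl_isZero {A : X.Modules} (hz : IsZero A) : KRR.cl X A = 0 := by
  have h0 : KRR.vbP X A := isFinLocFree_of_isZero hz
  have hS : (ShortComplex.mk (0 : A ⟶ A) (0 : A ⟶ A) zero_comp).ShortExact :=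
    { exact := ShortComplex.exact_of_isZero_X₂ _ hz
      mono_f := ⟨fun _ _ _ => hz.eq_of_tgt _ _⟩
      epi_g := ⟨fun _ _ _ => hz.eq_of_src _ _⟩ }
  simpa using K0ResLib.clSub_add (P := KRR.vbP X) hS h0 h0 h0

/-- The pull-back on `K₀` of bundles. -/
theorem exists_pullVb (f : X ⟶ Y) : ∃ p : SGA6.Kvb Y →+ SGA6.Kvb X, ∀ E : Y.Modules, FlatMod.IsFinLocFree E →
    p (KRR.cl Y E) = KRR.cl X ((Scheme.Modules.pullback f).obj E) := by
  let g₁ : FreeAbelianGroup (Subtype (KRR.vbP Y)) →+ SGA6.Kvb X :=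
    FreeAbelianGroup.lift fun E => KRR.cl X ((Scheme.Modules.pullback f).obj E.1)
  have hg₁ : KZero.relSub (KRR.vbP Y) ≤ g₁.ker := by
    refine (AddSubgroup.closure_le _).2 ?_
    rintro _ ⟨S, h₁, h₂, h₃, hS, rfl⟩
    have h := K0ResLib.clSub_add (P := KRR.vbP X)
      (DCohLib.shortExact_pullback_of_isFlat (f := f) S hS (PullbackMod.isFlat_of_isFinLocFree _ h₃))
      (PullbackMod.isFinLocFree_pullback f _ h₁) (PullbackMod.isFinLocFree_pullback f _ h₂) (PullbackMod.isFinLocFree_pullback f _ h₃)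
    simp only [SetLike.mem_coe, AddMonoidHom.mem_ker, map_sub, g₁, FreeAbelianGroup.lift_apply_of]
    rw [sub_sub, sub_eq_zero]
    exact h
  refine ⟨QuotientAddGroup.lift (KZero.relSub (KRR.vbP Y)) g₁ hg₁, fun E hE => ?_⟩
  show QuotientAddGroup.lift (KZero.relSub (KRR.vbP Y)) g₁ hg₁ (KZero.clSub (KRR.vbP Y) E) = _
  rw [K0ResLib.clSub_of (show KRR.vbP Y E from hE)]
  exact FreeAbelianGroup.lift_apply_of _ _

/-- The alternating sum of a bounded exact complex of bundles. -/
theorem euler_exact {L : ChainComplex X.Modules ℕ} {n : ℕ} (hL : ∀ i, FlatMod.IsFinLocFree (L.X i))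
    (hz : ∀ i, n < i → IsZero (L.X i)) (hex : ∀ i, L.ExactAt i) :
    ∑ k ∈ Finset.range (n + 1), (-1 : ℤ) ^ k • KRR.cl X (L.X k) = 0 := by
  have hepi : ∀ i, Epi (L.toCycles (i + 1) i) := fun i => by
    haveI : IsZero (L.homology i) := (HomologicalComplex.exactAt_iff_isZero_homology _ _).1 (hex i)
    exact Preadditive.epi_of_cancel_zero _ fun z hz' => by
      obtain ⟨w, hw⟩ := CokernelCofork.IsColimit.desc' (L.homologyIsCokernel (i + 1) i (by simp)) z hz'
      rw [← hw, this.eq_of_src w 0, comp_zero]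
  have key : ∀ i, KRR.vbP X (L.cycles i) ∧
      (-1 : ℤ) ^ i • KRR.cl X (L.cycles i) = ∑ k ∈ Finset.range (i + 1), (-1 : ℤ) ^ k • KRR.cl X (L.X k) := by
    intro i
    induction i with
    | zero =>
      have e : L.cycles 0 ≅ L.X 0 := L.iCyclesIso 0 0 (by simp) (by simp)
      exact ⟨isFinLocFree_iso e.symm (hL 0), by simpa using (cl_iso e.symm (hL 0))⟩
    | succ i ih =>
      haveI := hepi i
      let S := ShortComplex.mk (L.iCycles (i + 1)) (L.toCycles (i + 1) i) (by
        rw [← cancel_mono (L.iCycles i), Category.assoc, L.toCycles_i, L.iCycles_d, zero_comp])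
      have hS : S.ShortExact :=
        { exact := ShortComplex.exact_of_f_is_kernel _ (KernelFork.IsLimit.ofι _ _
            (fun x hx => L.liftCycles x i (by simp) (by rw [← L.toCycles_i, reassoc_of% hx, zero_comp]))
            (fun x hx => L.liftCycles_i _ _ _ _)
            (fun x hx m hm => by rw [← cancel_mono (L.iCycles (i + 1)), L.liftCycles_i]; exact hm))
          mono_f := inferInstanceAs (Mono (L.iCycles (i + 1)))
          epi_g := hepi i }
      have h1 : KRR.vbP X (L.cycles (i + 1)) := isFinLocFree_of_shortExact hS (hL (i + 1)) ih.1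
      refine ⟨h1, ?_⟩
      rw [Finset.sum_range_succ, ← ih.2]
      have h := K0ResLib.clSub_add (P := KRR.vbP X) hS h1 (hL (i + 1)) ih.1
      dsimp only [S] at h
      rw [show KRR.cl X (L.X (i + 1)) = _ from h, smul_add, pow_succ, mul_neg, mul_one, neg_smul, neg_smul]
      abel
  have hzero : IsZero (L.cycles (n + 1)) :=
    IsZero.of_mono (L.iCycles (n + 1)) (hz (n + 1) (by omega))
  have h := (key (n + 1)).2
  rw [cl_isZero hzero, smul_zero, Finset.sum_range_succ, cl_isZero (hz (n + 1) (by omega)), smul_zero, add_zero] at h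
  exact h.symm

theorem pull_pushCl_disjoint [IsLocallyNoetherian Y] (F : X ⟶ Y) (hF : Mor2.IsRegularClosedImmersion F) [CompactSpace X]
    (hYe : KRR.HasEnoughLocFree Y) (h : Z ⟶ Y) (hd : ∀ z, h z ∉ Set.range F)
    {KX KY KZ : Type*} [CommRing KX] [CommRing KY] [CommRing KZ] (φX : SGA6.Kvb X →+ KX) (hφX : Function.Bijective φX)
    (φY : SGA6.Kvb Y →+ KY) (φZ : SGA6.Kvb Z →+ KZ)
    (gh : KY →+ KZ) (hgh : KRR.IsPull h φY φZ gh) (gF : KX →+ KY) (hgF : KRR.IsPushCl F φX φY gF)
    (x : KX) : gh (gF x) = 0 := by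
  haveI := hF.1
  obtain ⟨a, rfl⟩ := hφX.2 x
  refine DFunLike.congr_fun (show (gh.comp gF).comp φX = 0 from addMonoidHom_ext_cl fun G hG => ?_) a
  obtain ⟨n, L, π, hL⟩ := exists_lfRes_push F hF hYe G hG
  haveI := hL.quasiIso
  let U : Y.Opens := ⟨(Set.range F)ᶜ, F.isClosedEmbedding.isClosed_range.isOpen_compl⟩
  let R := Scheme.Modules.restrictFunctor U.ι
  let h' : Z ⟶ (U : Scheme.{u}) := IsOpenImmersion.lift U.ι h (by
    rintro _ ⟨z, rfl⟩
    rw [Scheme.Opens.range_ι]
    exact hd z)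
  have hh' : h' ≫ U.ι = h := IsOpenImmersion.lift_fac _ _ _
  have hzero : IsZero (R.obj ((Scheme.Modules.pushforward F).obj G)) := isZero_of_stalks fun y =>
    ((Scheme.Modules.restrictStalkNatIso U.ι y).app _).addCommGroupIsoToAddEquiv.toEquiv.subsingleton_congr.2
      (subsingleton_stalk_pushforward F G _ y.2)
  let L' := (R.mapHomologicalComplex (ComplexShape.down ℕ)).obj L
  let M' := (R.mapHomologicalComplex (ComplexShape.down ℕ)).obj
    ((ChainComplex.single₀ Y.Modules).obj ((Scheme.Modules.pushforward F).obj G))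
  have hex : ∀ i, L'.ExactAt i := fun i => by
    have hM : IsZero (M'.X i) := by
      cases i with
      | zero => exact hzero
      | succ i => exact R.map_isZero (HomologicalComplex.isZero_single_obj_X _ 0 _ (i + 1) (by omega))
    have hM' : M'.ExactAt i := ShortComplex.exact_of_isZero_X₂ _ hM
    exact (quasiIsoAt_iff_exactAt' ((R.mapHomologicalComplex (ComplexShape.down ℕ)).map π) i hM').1 inferInstance
  have hU : ∀ i, FlatMod.IsFinLocFree (L'.X i) := fun i => isFinLocFree_restrict U.ι (hL.finLocFree i)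
  have he := euler_exact (n := n) hU (fun i hi => R.map_isZero (hL.isZero i hi)) hex
  obtain ⟨p, hp⟩ := exists_pullVb h'
  show gh (gF (φX (KRR.cl X G))) = 0
  rw [hgF G hG n L π hL]
  simp only [map_sum, map_zsmul]
  have e2 := congrArg (fun z => φZ (p z)) he
  simp only [map_sum, map_zsmul, map_zero] at e2
  refine Eq.trans (Finset.sum_congr rfl fun k _ => ?_) e2
  rw [hgh _ (hL.finLocFree k), hp _ (hU k)]
  refine congrArg (fun z => (-1 : ℤ) ^ k • φZ z) (cl_iso ?_ (PullbackMod.isFinLocFree_pullback h' _ (hU k))).symm.symm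
  exact (Scheme.Modules.pullback h').mapIso ((Scheme.Modules.restrictFunctorIsoPullback U.ι).app (L.X k)) ≪≫
    (Scheme.Modules.pullbackComp h' U.ι).app (L.X k) ≪≫ (Scheme.Modules.pullbackCongr hh').app (L.X k)

end Groth.Agent.KRRAmple
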