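import Groth.Agent.KRRAmple.Resolvable
import Groth.Agent.DerSchH7.Push
import Groth.Agent.DCohLib.ProjClosed
import Groth.Agent.DevLib.Closed
import Groth.Agent.RegIdealLib.Immersion
import Mathlib.RingTheory.Regular.ProjectiveDimension
import Mathlib.RingTheory.Regular.Flat

/-!
# Direct images of bundles along regular closed immersions in `K₀`
-/

set_option autoImplicit false
set_option linter.style.haveILetI false
set_option backward.isDefEq.respectTransparency false

universe u

open CategoryTheory CategoryTheory.Limits AlgebraicGeometry RingTheory.Sequence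
open Groth.Agent.DCohLib

noncomputable section

namespace Groth.Agent.KRRAmple

section Ring

variable {R : Type u} [CommRing R]

/-- Dividing by a weakly regular sequence raises the projective dimension at most by the length. -/
theorem pd_quot : ∀ (rs : List R) (M : ModuleCat.{u} R) (n : ℕ), IsWeaklyRegular M rs →
    HasProjectiveDimensionLE M n →
    HasProjectiveDimensionLE (ModuleCat.of R (M ⧸ Ideal.ofList rs • (⊤ : Submodule R M))) (n + rs.length)
  | [], M, n, _, h => hasProjectiveDimensionLT_of_iso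
      (Submodule.quotEquivOfEqBot _ (by rw [Ideal.ofList_nil, Submodule.bot_smul])).toModuleIso.symm (n + 1)
  | x :: rs, M, n, hreg, h => by
    rw [isWeaklyRegular_cons_iff] at hreg
    have hS : (M.smulShortComplex x).ShortExact := hreg.1.smulShortComplex_shortExact
    have h1 : HasProjectiveDimensionLE (ModuleCat.of R (QuotSMulTop x M)) (n + 1) :=
      haveI : HasProjectiveDimensionLT M (n + 1) := h
      hS.hasProjectiveDimensionLT_X₃ (n + 1) h (hasProjectiveDimensionLT_of_ge M (n + 1) (n + 2) (by omega))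
    have h2 := pd_quot rs (ModuleCat.of R (QuotSMulTop x M)) (n + 1) hreg.2 h1
    rw [List.length_cons, show n + (rs.length + 1) = n + 1 + rs.length by omega]
    exact hasProjectiveDimensionLT_of_iso
      (Submodule.quotOfListConsSMulTopEquivQuotSMulTopInner M x rs).toModuleIso.symm _

theorem isWeaklyRegular_finsupp (ι : Type u) {rs : List R} (h : IsWeaklyRegular R rs) :
    IsWeaklyRegular (ι →₀ R) rs :=
  ((TensorProduct.rid R (ι →₀ R)).isWeaklyRegular_congr rs).1 h.isWeaklyRegular_lTensor

end Ring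

/-- Projective modules over a quotient by a regular sequence. -/
theorem pd_restrictScalars {R S : CommRingCat.{u}} (φ : R ⟶ S) (hφ : Function.Surjective φ) (rs : List R)
    (hreg : IsWeaklyRegular R rs) (hker : RingHom.ker φ.hom = Ideal.ofList rs) (P : ModuleCat.{u} S) [Projective P] :
    HasProjectiveDimensionLE ((ModuleCat.restrictScalars φ.hom).obj P) rs.length := by
  let F : ModuleCat.{u} S := ModuleCat.of S (P →₀ S)
  let p : F ⟶ P := ModuleCat.ofHom (Finsupp.linearCombination S (id : P → P))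
  haveI : Epi p := (ModuleCat.epi_iff_surjective _).2 (Finsupp.linearCombination_id_surjective S P)
  have r : Retract P F := ⟨Projective.factorThru (𝟙 P) p, p, Projective.factorThru_comp _ _⟩
  haveI hF : HasProjectiveDimensionLT ((ModuleCat.restrictScalars φ.hom).obj F) (rs.length + 1) := by
    let q : (P →₀ R) →ₗ[R] ((ModuleCat.restrictScalars φ.hom).obj F) :=
      { toFun := fun c => (Finsupp.mapRange φ.hom (map_zero _) c : P →₀ S)
        map_add' := fun a b => Finsupp.mapRange_add (hf' := map_add _) a b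
        map_smul' := fun a c => by
          show (Finsupp.mapRange φ.hom _ (a • c) : P →₀ S) = φ.hom a • Finsupp.mapRange φ.hom _ c
          ext i
          simp }
    have hq : Function.Surjective q := Finsupp.mapRange_surjective φ.hom (map_zero _) hφ
    have hsub : Finsupp.submodule (fun _ : P => (⊤ : Submodule R R)) = ⊤ :=
      eq_top_iff.2 fun c _ i => Submodule.mem_top
    have hI : Ideal.ofList rs • (⊤ : Submodule R (P →₀ R)) =
        Finsupp.submodule fun _ : P => (Ideal.ofList rs : Submodule R R) := by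
      rw [← hsub, ← Finsupp.submodule_smul]
      simp
    have hk : LinearMap.ker q = Ideal.ofList rs • (⊤ : Submodule R (P →₀ R)) := by
      rw [hI, ← hker]
      ext c
      exact ⟨fun h i => DFunLike.congr_fun (show (Finsupp.mapRange φ.hom (map_zero _) c : P →₀ S) = 0 from h) i,
        fun h => show (Finsupp.mapRange φ.hom (map_zero _) c : P →₀ S) = 0 from Finsupp.ext fun i => h i⟩
    have h0 := pd_quot rs (ModuleCat.of R (P →₀ R)) 0 (isWeaklyRegular_finsupp _ hreg)
      ((projective_iff_hasProjectiveDimensionLE_zero _).1 (ModuleCat.projective_of_free Finsupp.basisSingleOne))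
    rw [Nat.zero_add] at h0
    exact hasProjectiveDimensionLT_of_iso
      ((Submodule.quotEquivOfEq _ _ hk.symm).trans (q.quotKerEquivOfSurjective hq)).toModuleIso _
  exact (r.map (ModuleCat.restrictScalars φ.hom)).hasProjectiveDimensionLT _

section Scheme

variable {X Y : Scheme.{u}}

theorem exists_pd_bound (f : X ⟶ Y) (hf : Mor2.IsRegularClosedImmersion f) [CompactSpace X] :
    ∃ n : ℕ, ∀ F : X.Modules, FlatMod.IsFinLocFree F → ∀ y : Y,
      HasProjectiveDimensionLE ((stkF y).obj ((Scheme.Modules.pushforward f).obj F)) n := by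
  obtain ⟨hci, hloc⟩ := hf
  haveI := hci
  choose U hU hfU rs hreg hker using hloc
  obtain ⟨t, ht⟩ := isCompact_univ.elim_finite_subcover (fun z => ((f ⁻¹ᵁ U z : X.Opens) : Set X))
    (fun z => (f ⁻¹ᵁ U z).2) (fun z _ => Set.mem_iUnion.2 ⟨z, hfU z⟩)
  refine ⟨t.sup fun z => (rs z).length, fun F hF y => ?_⟩
  by_cases hy : y ∈ Set.range f
  · obtain ⟨x, rfl⟩ := hy
    obtain ⟨z, hz, hxz⟩ := Set.mem_iUnion₂.1 (ht (Set.mem_univ x))
    haveI : Projective ((stkF x).obj F) := (IsProjective.iff_projective ((stkF x).obj F)).1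
      (DerSchH7.projective_stalk_of_isFinLocFree hF x)
    letI : Algebra Γ(Y, U z) (Y.presheaf.stalk (f x)) :=
      TopCat.Presheaf.algebra_section_stalk Y.presheaf ⟨f x, hxz⟩
    haveI := (hU z).isLocalization_stalk ⟨f x, hxz⟩
    have hreg' : IsWeaklyRegular (Y.presheaf.stalk (f x)) ((rs z).map (algebraMap Γ(Y, U z) _)) :=
      (hreg z).toIsWeaklyRegular.of_isLocalization _ ((hU z).primeIdealOf ⟨f x, hxz⟩).asIdeal.primeCompl
    have hc : IsClosedImmersion (f ∣_ U z) := IsZariskiLocalAtTarget.restrict hci (U z)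
    have hk : RingHom.ker (f.stalkMap x).hom = Ideal.ofList ((rs z).map (algebraMap Γ(Y, U z) _)) := by
      rw [RegIdealLib.ker_stalkMap f (hU z) hc x hxz, ← Ideal.map_ofList, ← hker z, Scheme.Hom.ker_apply]
      rfl
    have h := pd_restrictScalars (f.stalkMap x) (f.stalkMap_surjective x) _ hreg' hk ((stkF x).obj F)
    rw [List.length_map] at h
    haveI := h
    have h' := hasProjectiveDimensionLT_of_ge ((ModuleCat.restrictScalars (f.stalkMap x).hom).obj ((stkF x).obj F))
      ((rs z).length + 1) ((t.sup fun z => (rs z).length) + 1)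
      (by simpa using Finset.le_sup (f := fun z => (rs z).length) hz)
    exact @hasProjectiveDimensionLT_of_iso _ _ _ _ _ ((DerSchH7.pushStalkNatIso f x).app F).symm _ h'
  · haveI := subsingleton_stalk_pushforward f F y hy
    have hz : IsZero ((stkF y).obj ((Scheme.Modules.pushforward f).obj F)) := by
      haveI : Subsingleton ((stkF y).obj ((Scheme.Modules.pushforward f).obj F)) := this
      exact ModuleCat.isZero_of_subsingleton _
    haveI := hz.hasProjectiveDimensionLT_zero
    exact hasProjectiveDimensionLT_of_ge _ 0 _ (Nat.zero_le _)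

variable [IsLocallyNoetherian Y]

theorem isCoh_of_pushforward (f : X ⟶ Y) [IsClosedImmersion f] (F : X.Modules) (hF : FlatMod.IsFinLocFree F) :
    Coh.IsCoh ((Scheme.Modules.pushforward f).obj F) :=
  haveI : IsLocallyNoetherian X := LocallyOfFiniteType.isLocallyNoetherian f
  DevLib.isCoh_pushforward_closed f (DCohLib.isCoh_of_isFinLocFree hF)

theorem pdFin_pushforward (f : X ⟶ Y) (hf : Mor2.IsRegularClosedImmersion f) [CompactSpace X] (F : X.Modules)
    (hF : FlatMod.IsFinLocFree F) : PDfin ((Scheme.Modules.pushforward f).obj F) := by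
  obtain ⟨n, hn⟩ := exists_pd_bound f hf
  haveI := hf.1
  exact ⟨n, isCoh_of_pushforward f F hF, hn F hF⟩

theorem clSub_iso_PDfin {M N : Y.Modules} (e : M ≅ N) (hM : PDfin M) :
    PDfin N ∧ KZero.clSub PDfin N = KZero.clSub PDfin M := by
  obtain ⟨n, hn⟩ := hM
  have hN : PD n N := ⟨DCohLib.isCoh_iso e hn.1, fun x =>
    haveI := hn.2 x; hasProjectiveDimensionLT_of_iso ((stkF x).mapIso e) (n + 1)⟩
  have hz : IsZero (kernel e.hom) := isZero_kernel_of_mono e.hom
  have h0 : PDfin (kernel e.hom) := ⟨0, (pd_zero_iff _).2 (isFinLocFree_of_isZero hz)⟩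
  refine ⟨⟨n, hN⟩, ?_⟩
  have h := K0ResLib.clSub_add (K0ResLib.kerSC_shortExact e.hom) h0 ⟨n, hn⟩ ⟨n, hN⟩
  have hzz : KZero.clSub PDfin (kernel e.hom) = 0 := by
    have hS : (ShortComplex.mk (0 : kernel e.hom ⟶ kernel e.hom) (0 : kernel e.hom ⟶ kernel e.hom) zero_comp).ShortExact :=
      { exact := ShortComplex.exact_of_isZero_X₂ _ hz
        mono_f := ⟨fun _ _ _ => hz.eq_of_tgt _ _⟩
        epi_g := ⟨fun _ _ _ => hz.eq_of_src _ _⟩ }
    simpa using K0ResLib.clSub_add hS h0 h0 h0
  rw [hzz, zero_add] at h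
  exact h.symm

/-- The Euler characteristic of a finite resolution by modules of finite projective dimension. -/
theorem clSub_euler_PDfin {M : Y.Modules} {n : ℕ} {L : ChainComplex Y.Modules ℕ}
    (π : L ⟶ (ChainComplex.single₀ Y.Modules).obj M) [QuasiIso π] (hP : ∀ i, PDfin (L.X i))
    (hz : ∀ i, n < i → IsZero (L.X i)) :
    PDfin M ∧ KZero.clSub PDfin M = ∑ k ∈ Finset.range (n + 1), (-1 : ℤ) ^ k • KZero.clSub PDfin (L.X k) := by
  have hex : ∀ i, L.ExactAt (i + 1) := fun i => by
    have hq : QuasiIsoAt π (i + 1) := inferInstance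
    rwa [quasiIsoAt_iff_exactAt' _ _ (ChainComplex.exactAt_succ_single_obj _ i)] at hq
  have key : ∀ (k i : ℕ), i + k = n → PDfin (L.opcycles i) ∧ KZero.clSub PDfin (L.opcycles i) =
      ∑ j ∈ Finset.range (k + 1), (-1 : ℤ) ^ j • KZero.clSub PDfin (L.X (i + j)) := by
    intro k
    induction k with
    | zero =>
      intro i hi
      haveI : IsIso (L.pOpcycles i) := L.isIso_pOpcycles (i + 1) i (by simp) ((hz (i + 1) (by omega)).eq_of_src _ _)
      simpa using clSub_iso_PDfin (asIso (L.pOpcycles i)) (hP i)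
    | succ k ih =>
      intro i hi
      let S := ShortComplex.mk (L.fromOpcycles (i + 1) i) (L.pOpcycles i) (by
        rw [← cancel_epi (L.pOpcycles (i + 1)), L.p_fromOpcycles_assoc, L.d_pOpcycles, comp_zero])
      have hS : S.ShortExact := by
        haveI : Mono S.f := Preadditive.mono_of_cancel_zero _ fun {W} z hz => by
          obtain ⟨w, hw⟩ := KernelFork.IsLimit.lift' (L.homologyIsKernel (i + 1) i (by simp)) z hz
          rw [← hw, ((HomologicalComplex.exactAt_iff_isZero_homology _ _).1 (hex i)).eq_of_tgt w 0, zero_comp]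
        haveI : Epi S.g := inferInstanceAs (Epi (L.pOpcycles i))
        let T := ShortComplex.mk (L.d (i + 1) i) (L.pOpcycles i) (L.d_pOpcycles (i + 1) i)
        have hT : T.Exact := ShortComplex.exact_of_g_is_cokernel _ (L.opcyclesIsCokernel (i + 1) i (by simp))
        let φ : T ⟶ S := { τ₁ := L.pOpcycles (i + 1), τ₂ := 𝟙 _, τ₃ := 𝟙 _ }
        haveI : Epi φ.τ₁ := inferInstanceAs (Epi (L.pOpcycles (i + 1)))
        haveI : IsIso φ.τ₂ := inferInstanceAs (IsIso (𝟙 _))
        haveI : Mono φ.τ₃ := inferInstanceAs (Mono (𝟙 _))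
        exact { exact := (ShortComplex.exact_iff_of_epi_of_isIso_of_mono φ).1 hT }
      obtain ⟨⟨m, hm⟩, hsum⟩ := ih (i + 1) (by omega)
      have hcoh : Coh.IsCoh (L.opcycles i) := DCohLib.isCoh_iso
        (IsColimit.coconePointUniqueUpToIso (cokernelIsCokernel (L.d (i + 1) i)) (L.opcyclesIsCokernel (i + 1) i (by simp)))
        (QCohLib.isCoh_kernel_cokernel _ (hP (i + 1)).choose_spec.1 (hP i).choose_spec.1).2
      obtain ⟨m', hm'⟩ := hP i
      have h3 : PDfin (L.opcycles i) := ⟨max m m' + 1, hcoh, fun x => (stalk_shortExact hS x).hasProjectiveDimensionLT_X₃ _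
        ((hm.mono (le_max_left m m')).2 x) ((hm'.mono (show m' ≤ max m m' + 1 by omega)).2 x)⟩
      refine ⟨h3, ?_⟩
      have h := K0ResLib.clSub_add hS ⟨m, hm⟩ (hP i) h3
      dsimp only [S] at h
      rw [eq_sub_of_add_eq' h.symm, hsum, Finset.sum_range_succ' _ (k + 1), pow_zero, one_smul, Nat.add_zero,
        sub_eq_neg_add, ← Finset.sum_neg_distrib]
      congr 1
      refine Finset.sum_congr rfl fun j _ => ?_
      rw [pow_succ, mul_neg, mul_one, neg_smul, show i + (j + 1) = i + 1 + j by omega]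
  obtain ⟨h0, hs⟩ := key n 0 (by omega)
  have e : L.opcycles 0 ≅ M :=
    (asIso (L.homologyι 0)).symm ≪≫ (asIso (HomologicalComplex.homologyMap π 0) : _) ≪≫
      HomologicalComplex.singleObjHomologySelfIso _ 0 M
  refine ⟨(clSub_iso_PDfin e h0).1, ?_⟩
  rw [(clSub_iso_PDfin e h0).2, hs]
  simp

/-- The Euler characteristic of a finite locally free resolution. -/
theorem clSub_euler {M : Y.Modules} {n : ℕ} {L : ChainComplex Y.Modules ℕ}
    {π : L ⟶ (ChainComplex.single₀ Y.Modules).obj M} (hL : KRR.IsLFRes M n L π) :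
    KZero.clSub PDfin M = ∑ k ∈ Finset.range (n + 1), (-1 : ℤ) ^ k • KZero.clSub PDfin (L.X k) :=
  haveI := hL.quasiIso
  (clSub_euler_PDfin π (fun i => ⟨0, (pd_zero_iff _).2 (hL.finLocFree i)⟩) hL.isZero).2


end Scheme

section Gen

theorem addMonoidHom_ext_cl {X : Scheme.{u}} {A : Type*} [AddCommGroup A] {g h : SGA6.Kvb X →+ A}
    (e : ∀ F : X.Modules, FlatMod.IsFinLocFree F → g (KRR.cl X F) = h (KRR.cl X F)) : g = h := by
  refine QuotientAddGroup.addMonoidHom_ext _ (FreeAbelianGroup.lift_ext _ _ fun Z => ?_)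
  show g (QuotientAddGroup.mk (FreeAbelianGroup.of Z)) = h (QuotientAddGroup.mk (FreeAbelianGroup.of Z))
  have hz : (QuotientAddGroup.mk (FreeAbelianGroup.of Z) : SGA6.Kvb X) = KRR.cl X Z.1 := (K0ResLib.clSub_of Z.2).symm
  rw [hz]
  exact e Z.1 Z.2

theorem mapSub_cl {C : Type*} [Category C] [Abelian C] {D : Type*} [Category D] [Abelian D]
    (G : C ⥤ D) [G.Additive] [PreservesFiniteLimits G] [PreservesFiniteColimits G]
    (P : ObjectProperty C) (Q : ObjectProperty D) (h : ∀ Z, P Z → Q (G.obj Z)) {Z : C} (hZ : P Z) :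
    SGA6.mapSub G P Q h (KZero.clSub P Z) = KZero.clSub Q (G.obj Z) := by
  rw [K0ResLib.clSub_of hZ, K0ResLib.clSub_of (h Z hZ)]
  rfl

theorem existsUnique_isPushCl {X Y : Scheme.{u}} (f : X ⟶ Y) (hf : Mor2.IsRegularClosedImmersion f)
    [CompactSpace X] [IsLocallyNoetherian Y] (hYe : KRR.HasEnoughLocFree Y)
    {KX KY : Type*} [CommRing KX] [CommRing KY] (φX : SGA6.Kvb X →+ KX) (hφX : Function.Bijective φX)
    (φY : SGA6.Kvb Y →+ KY) : ∃! h : KX →+ KY, KRR.IsPushCl f φX φY h := by
  haveI := hf.1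
  have hle : ∀ M : Y.Modules, KRR.vbP Y M → PDfin M := fun M hM => ⟨0, (pd_zero_iff _).2 hM⟩
  have hbij := K0ResLib.bijective (hyp hYe) hle fun A hA => by
    obtain ⟨n, hn⟩ := hA
    exact ⟨n, D_of_PD n A hn⟩
  let eX := AddEquiv.ofBijective φX hφX
  let eY := AddEquiv.ofBijective _ hbij
  let P := SGA6.mapSub (Scheme.Modules.pushforward f) (KRR.vbP X) PDfin (pdFin_pushforward f hf)
  let h : KX →+ KY := φY.comp (eY.symm.toAddMonoidHom.comp (P.comp eX.symm.toAddMonoidHom))
  have hh : KRR.IsPushCl f φX φY h := by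
    intro F hF n L π hL
    show φY (eY.symm (P (eX.symm (eX (KRR.cl X F))))) = _
    rw [AddEquiv.symm_apply_apply, show P (KRR.cl X F) = _ from mapSub_cl _ _ _ (pdFin_pushforward f hf) hF,
      clSub_euler hL]
    simp only [map_sum, map_zsmul]
    refine Finset.sum_congr rfl fun k _ => ?_
    congr 1
    rw [show KZero.clSub PDfin (L.X k) = eY (KRR.cl Y (L.X k)) from
      (mapSub_cl (𝟭 Y.Modules) (KRR.vbP Y) PDfin hle (hL.finLocFree k)).symm, AddEquiv.symm_apply_apply]
  refine ⟨h, hh, fun g hg => ?_⟩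
  have key : g.comp φX = h.comp φX := addMonoidHom_ext_cl fun F hF => by
    obtain ⟨n, hn⟩ := pdFin_pushforward f hf F hF
    obtain ⟨L, π, hL⟩ := hasLFRes_of_PD hYe n _ hn
    exact (hg F hF n L π hL).trans (hh F hF n L π hL).symm
  ext a
  obtain ⟨b, rfl⟩ := hφX.2 a
  exact DFunLike.congr_fun key b

end Gen

end Groth.Agent.KRRAmple
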