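import Groth.Agent.KRRAmple.Euler
import Groth.Agent.CurveLib.DegTensor

/-!
# The augmentation ideal is nil in the presence of an ample line bundle
-/

set_option autoImplicit false
set_option linter.style.haveILetI false
set_option backward.isDefEq.respectTransparency false

universe v u

open CategoryTheory CategoryTheory.Limits AlgebraicGeometry
open Groth.Agent.PullbackMod Groth.Agent.DCohLib

noncomputable section

namespace Groth.Agent.KRRAmple

variable {X : Scheme.{u}} {K : Type v} [CommRing K] [LambdaRing.LambdaOps K]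
  {P : LambdaRing.PosStructure K} {φ : SGA6.Kvb X →+ K}

theorem isNilpotent_of_aug_eq_zero [ConnectedSpace ↥X] {L : X.Modules} (hL : CohB1.IsAmple L)
    (hK : KRR.IsModel X K P φ) (x : K) (hx : P.aug x = 0) : IsNilpotent x := by
  haveI := hL.2.1
  have hLf : ∀ n, FlatMod.IsFinLocFree (CohB1.tensorPow L n) := fun n =>
    CurveLib.isFinLocFree_of_isInvertible (AmpleLib.isInvertible_tensorPow hL.1 n)
  let u := kl φ L
  have haugu : P.aug u = 1 := by simpa using hK.aug_cl 1 L (CurveLib.isFinLocFreeOfRank_one hL.1)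
  have twist : ∀ M : X.Modules, FlatMod.IsFinLocFree M → ∃ d, 0 < d ∧ ∃ k₀, ∀ k, k₀ ≤ k →
      IsNilpotent (kl φ M * u ^ (d * k) - (P.aug (kl φ M) : K)) := fun M hM => by
    haveI := (isQCoh_and_isFP_of_isFinLocFree M hM).1
    haveI := (isQCoh_and_isFP_of_isFinLocFree M hM).2
    have hft : CohB1.IsFT M := inferInstanceAs (SheafOfModules.IsFiniteType (R := X.ringCatSheaf) M)
    obtain ⟨d, hd, k₀, hk⟩ := AmpleLib.exists_twist_globallyGenerated hL M
      (fun W hW => QCohLib.finite_sections M hft hW)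
    refine ⟨d, hd, k₀, fun k hk' => ?_⟩
    let G := CohB1.tensorMod M (CohB1.tensorPow L (d * k))
    have hG : FlatMod.IsFinLocFree G := isFinLocFree_tensor hM (hLf _)
    obtain ⟨r, hr⟩ := exists_isFinLocFreeOfRank hG
    have hmul : kl φ M * u ^ (d * k) = kl φ G := by
      rw [← pow_mul_cl hK hL.1 hLf]
      exact hK.map_mul M _ hM (hLf _)
    have haug : P.aug (kl φ M) = r := by
      have := congrArg P.aug hmul
      rwa [map_mul, map_pow, haugu, one_pow, mul_one, show P.aug (kl φ G) = r from hK.aug_cl r G hr] at this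
    rw [hmul, haug]
    simpa using isNilpotent_sub_rank hK hr (hk k hk')
  have hu : IsUnit u := by
    obtain ⟨d, hd, k₀, hk⟩ := twist (Coh.structureModule X) (BCLib.isFinLocFree_structureModule X)
    have h := hk (k₀ + 1) (by omega)
    rw [show kl φ (Coh.structureModule X) = 1 from hK.map_one, map_one, Int.cast_one, one_mul] at h
    have h' := h.isUnit_add_one
    rw [sub_add_cancel] at h'
    exact (isUnit_pow_iff (Nat.mul_ne_zero (by omega) (by omega))).1 h'
  obtain ⟨e, f, he, hf, rfl⟩ := P.exists_sub x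
  obtain ⟨r, E, -, hE, rfl⟩ := (hK.mem_pos_iff e).1 he
  obtain ⟨s, F, -, hF, rfl⟩ := (hK.mem_pos_iff f).1 hf
  obtain ⟨d₁, hd₁, k₁, h₁⟩ := twist E fun x => (let ⟨U, hU, e⟩ := hE x; ⟨U, _, hU, e⟩)
  obtain ⟨d₂, hd₂, k₂, h₂⟩ := twist F fun x => (let ⟨U, hU, e⟩ := hF x; ⟨U, _, hU, e⟩)
  have a := h₁ (d₂ * (k₁ + k₂)) (le_trans (Nat.le_add_right _ _) (Nat.le_mul_of_pos_left _ hd₂))
  have b := h₂ (d₁ * (k₁ + k₂)) (le_trans (Nat.le_add_left _ _) (Nat.le_mul_of_pos_left _ hd₁))
  rw [← mul_assoc, mul_comm d₁ d₂, mul_assoc] at a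
  rw [map_sub, sub_eq_zero] at hx
  have h := Commute.isNilpotent_sub (Commute.all _ _) a b
  rw [show P.aug (kl φ E) = P.aug (kl φ F) from hx, sub_sub_sub_cancel_right, ← sub_mul] at h
  exact ((hu.pow _).isNilpotent_mul_unit_of_commute_iff (Commute.all _ _)).1 h

end Groth.Agent.KRRAmple
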