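import Groth.Agent.KRRAmple.Basic
import Mathlib.RingTheory.LocalRing.Module

/-!
# Frames of a globally generated bundle
-/

set_option autoImplicit false
set_option linter.style.haveILetI false
set_option backward.isDefEq.respectTransparency false

universe v u

open CategoryTheory CategoryTheory.Limits AlgebraicGeometry TopologicalSpace Opposite
open Groth.Agent.PullbackMod Groth.Agent.DCohLib Groth.Agent.ParaFLib Groth.Agent.AmpleLib
open scoped TensorProduct

noncomputable section

namespace Groth.Agent.KRRAmple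

theorem exists_tuple_spanning {R : Type*} [CommRing R] [IsLocalRing R] {M : Type*} [AddCommGroup M] [Module R M]
    {m : ℕ} (e : M ≃ₗ[R] (Fin m → R)) (s : Set M) (hs : Submodule.span R s = ⊤) :
    ∃ g : Fin m → M, (∀ i, g i ∈ s) ∧ Submodule.span R (Set.range g) = ⊤ := by
  classical
  let k := IsLocalRing.ResidueField R
  let π : M →ₗ[R] k ⊗[R] M := TensorProduct.mk R k M 1
  haveI : Module.Finite R M := Module.Finite.equiv e.symm
  have hspan : Submodule.span k (π '' s) = ⊤ := by
    refine eq_top_iff.2 fun z _ => ?_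
    induction z with
    | zero => exact zero_mem _
    | add a b ha hb => exact add_mem (ha trivial) (hb trivial)
    | tmul c v =>
      have hv : π v ∈ Submodule.span k (π '' s) := by
        have : π v ∈ (Submodule.span R s).map π := Submodule.mem_map_of_mem (hs ▸ Submodule.mem_top)
        rw [Submodule.map_span] at this
        exact Submodule.span_le_restrictScalars R k _ this
      have := Submodule.smul_mem _ c hv
      simpa [π, TensorProduct.smul_tmul'] using this
  obtain ⟨b, hbs, hbspan, hli⟩ := exists_linearIndependent k (π '' s)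
  rw [hspan] at hbspan
  let B : Module.Basis b k (k ⊗[R] M) := Module.Basis.mk hli (by rw [Subtype.range_coe, hbspan])
  let B' : Module.Basis (Fin m) k (k ⊗[R] M) :=
    (Pi.basisFun k (Fin m)).map ((e.baseChange R k).trans (TensorProduct.piScalarRight R k k (Fin m))).symm
  let σ : b ≃ Fin m := B.indexEquiv B'
  choose g hgs hg using fun i : Fin m => hbs (σ.symm i).2
  refine ⟨g, hgs, IsLocalRing.span_eq_top_of_tmul_eq_basis g (B.reindex σ) fun i => ?_⟩
  rw [Module.Basis.reindex_apply, Module.Basis.mk_apply]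
  exact hg i

variable {X : Scheme.{u}}

theorem isFinLocFreeOfRank_freeMod (n : ℕ) : FlatMod.IsFinLocFreeOfRank n (FlatMod.freeMod X n) := fun _ =>
  ⟨⊤, trivial, ⟨restrictFreeMod _ n⟩⟩

/-- The map given by a tuple of global sections. -/
abbrev tupHom (M : X.Modules) {m : ℕ} (σ : Fin m → Γ(M, ⊤)) : FlatMod.freeMod X m ⟶ M :=
  Sigma.desc fun j => secHom M (σ j)

/-- A globally generated bundle of rank `m` has finitely many families of `m` sections, one of which is a
frame near each point. -/
theorem exists_frames [CompactSpace X] {M : X.Modules} {m : ℕ} (hM : FlatMod.IsFinLocFreeOfRank m M)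
    (hg : Curv2.IsGloballyGenerated M) :
    ∃ (n : ℕ) (σ : Fin n → Fin m → Γ(M, ⊤)), ∀ x : X, ∃ t,
      Function.Bijective (stalkLin (tupHom M (σ t)) x) := by
  classical
  have hM' : FlatMod.IsFinLocFree M := fun x => (let ⟨U, hU, e⟩ := hM x; ⟨U, _, hU, e⟩)
  obtain ⟨hq, hfp⟩ := isQCoh_and_isFP_of_isFinLocFree M hM'
  haveI := hq
  haveI := hfp
  have hft : CohB1.IsFT M := inferInstanceAs (SheafOfModules.IsFiniteType (R := X.ringCatSheaf) M)
  obtain ⟨hqF, hfpF⟩ := isQCoh_and_isFP_of_isFinLocFree _ (isFinLocFree_freeMod (Y := X) m)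
  haveI := hqF
  have hfree := (isFinLocFreeOfRank_iff_freeAt M hfp m).1 hM
  have hfreeF := (isFinLocFreeOfRank_iff_freeAt _ hfpF m).1 (isFinLocFreeOfRank_freeMod (X := X) m)
  have hbij : ∀ (q : FlatMod.freeMod X m ⟶ M) (y : X), Function.Surjective (stalkLin q y) →
      Function.Bijective (stalkLin q y) := fun q y hs => by
    obtain ⟨e₁⟩ := hfreeF y
    obtain ⟨e₂⟩ := hfree y
    let f : (Fin m → X.presheaf.stalk y) →ₗ[X.presheaf.stalk y] (Fin m → X.presheaf.stalk y) :=
      e₂.toLinearMap ∘ₗ stalkLin q y ∘ₗ e₁.symm.toLinearMap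
    have hf : Function.Bijective f := OrzechProperty.bijective_of_surjective_endomorphism f
      (e₂.surjective.comp (hs.comp e₁.symm.surjective))
    have heq : ⇑(stalkLin q y) = e₂.symm ∘ f ∘ e₁ := funext fun z => by simp [f]
    rw [heq]
    exact e₂.symm.bijective.comp (hf.comp e₁.bijective)
  have hloc : ∀ x : X, ∃ (τ : Fin m → Γ(M, ⊤)) (W : X.Opens), x ∈ W ∧ ∀ y ∈ W,
      Function.Bijective (stalkLin (tupHom M τ) y) := fun x => by
    obtain ⟨e⟩ := hfree x
    obtain ⟨g, hgs, hgspan⟩ := exists_tuple_spanning e _ (ProjBundleLib.span_germ_of_isGloballyGenerated hg x)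
    choose τ hτ using hgs
    let q := tupHom M τ
    haveI : Coh.IsQCoh (cokernel q) := (QCohLib.isQCoh_image q hqF hq).2
    have hQ : CohB1.IsFT (cokernel q) := S4812.isFT_of_epi hft (cokernel.π q)
    have hx : x ∉ CohB1.support (cokernel q) := fun h => h (subsingleton_of_forall_eq 0 fun z => by
      obtain ⟨v, rfl⟩ := (PullbackMod.epi_iff_stalk (cokernel.π q)).1 inferInstance x z
      obtain ⟨w, rfl⟩ : v ∈ LinearMap.range (stalkLin q x) := by
        refine Submodule.span_le.2 ?_ (hgspan ▸ Submodule.mem_top : v ∈ Submodule.span _ (Set.range g))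
        rintro _ ⟨i, rfl⟩
        refine AmpleEmb.range_stalkLin_le (A := Coh.structureModule X) (fun j => secHom M (τ j)) i (𝟙 _) x ?_
        rw [Category.id_comp, ← hτ i]
        exact ⟨oneG x, stalkLin_secHom M (τ i) x⟩
      rw [← LinearMap.comp_apply, ← stalkLin_comp, cokernel.condition,
        (eq_zero_iff_stalk (0 : FlatMod.freeMod X m ⟶ cokernel q)).1 rfl x]
      rfl)
    exact ⟨τ, ⟨_, (isClosed_support_of_isFT hQ).isOpen_compl⟩, hx, fun y hy =>
      hbij q y (surjective_stalk_of_subsingleton_cokernel q y (not_not.1 hy))⟩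
  choose τ W hxW hW using hloc
  obtain ⟨T, hT⟩ := isCompact_univ.elim_finite_subcover (fun x : X => (W x : Set X)) (fun x => (W x).2)
    (fun x _ => Set.mem_iUnion.2 ⟨x, hxW x⟩)
  refine ⟨T.card, fun t => τ (T.equivFin.symm t).1, fun y => ?_⟩
  obtain ⟨x, hxT, hy⟩ := Set.mem_iUnion₂.1 (hT (Set.mem_univ y))
  refine ⟨T.equivFin ⟨x, hxT⟩, ?_⟩
  simp only [Equiv.symm_apply_apply]
  exact hW x y hy

end Groth.Agent.KRRAmple
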