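import Groth.Agent.KRRAmple.PushCl
import Groth.Agent.DCohLib.TensorPerf
import Groth.Agent.DCohLib.DualPerf
import Groth.Agent.PullbackMod.LocFree

/-!
# Projection formula and composition for push-forwards in `K₀`
-/

set_option autoImplicit false
set_option linter.style.haveILetI false
set_option backward.isDefEq.respectTransparency false

universe u

open CategoryTheory CategoryTheory.Limits AlgebraicGeometry
open Groth.Agent.DCohLib

noncomputable section

namespace Groth.Agent.KRRAmple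

variable {X Y Z : Scheme.{u}} [IsLocallyNoetherian Y]

theorem exists_lfRes_push (f : X ⟶ Y) (hf : Mor2.IsRegularClosedImmersion f) [CompactSpace X]
    (hYe : KRR.HasEnoughLocFree Y) (F : X.Modules) (hF : FlatMod.IsFinLocFree F) :
    ∃ (n : ℕ) (L : ChainComplex Y.Modules ℕ) (π : L ⟶ (ChainComplex.single₀ Y.Modules).obj
      ((Scheme.Modules.pushforward f).obj F)), KRR.IsLFRes ((Scheme.Modules.pushforward f).obj F) n L π := by
  obtain ⟨n, hn⟩ := pdFin_pushforward f hf F hF
  obtain ⟨L, π, hL⟩ := hasLFRes_of_PD hYe n _ hn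
  exact ⟨n, L, π, hL⟩

theorem pushCl_mul_pull (f : X ⟶ Y) (hf : Mor2.IsRegularClosedImmersion f) [CompactSpace X]
    (hYe : KRR.HasEnoughLocFree Y) {KX KY : Type*} [CommRing KX] [CommRing KY]
    (φX : SGA6.Kvb X →+ KX) (hφX : Function.Bijective φX)
    (hmX : ∀ E F : X.Modules, FlatMod.IsFinLocFree E → FlatMod.IsFinLocFree F →
      φX (KRR.cl X E) * φX (KRR.cl X F) = φX (KRR.cl X (((DCoh.tensorBi (X := X)).obj E).obj F)))
    (φY : SGA6.Kvb Y →+ KY) (hφY : Function.Bijective φY)
    (hmY : ∀ E F : Y.Modules, FlatMod.IsFinLocFree E → FlatMod.IsFinLocFree F →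
      φY (KRR.cl Y E) * φY (KRR.cl Y F) = φY (KRR.cl Y (((DCoh.tensorBi (X := Y)).obj E).obj F)))
    (g : KY →+ KX) (hg : KRR.IsPull f φY φX g) (h : KX →+ KY) (hh : KRR.IsPushCl f φX φY h)
    (x : KX) (y : KY) : h (x * g y) = h x * y := by
  haveI := hf.1
  obtain ⟨a, rfl⟩ := hφX.2 x
  obtain ⟨b, rfl⟩ := hφY.2 y
  have key : ∀ E : Y.Modules, FlatMod.IsFinLocFree E →
      (h.comp ((AddMonoidHom.mulRight (g (φY (KRR.cl Y E)))).comp φX)) =
        (AddMonoidHom.mulRight (φY (KRR.cl Y E))).comp (h.comp φX) := fun E hE =>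
    addMonoidHom_ext_cl fun F hF => by
      show h (φX (KRR.cl X F) * g (φY (KRR.cl Y E))) = h (φX (KRR.cl X F)) * φY (KRR.cl Y E)
      obtain ⟨n, L, π, hL⟩ := exists_lfRes_push f hf hYe F hF
      haveI := hL.quasiIso
      let T : Y.Modules ⥤ Y.Modules := (DCoh.tensorBi (X := Y)).flip.obj E
      have hEf : ModSite.IsFlat (O := Y.sheaf) E := (isFlat_iff E).1 (fun x => PullbackMod.isFlat_of_isFinLocFree E hE x)
      haveI : T.Additive := Groth.Agent.ModTensor.additive_tensorBi_flip Y.sheaf E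
      haveI : PreservesFiniteColimits T := Groth.Agent.ModTensor.preservesFiniteColimits_tensorBi_flip Y.sheaf E
      haveI : PreservesFiniteLimits T := hEf.1
      let L' := (T.mapHomologicalComplex (ComplexShape.down ℕ)).obj L
      let π' : L' ⟶ (ChainComplex.single₀ Y.Modules).obj
          ((Scheme.Modules.pushforward f).obj (tmod F ((Scheme.Modules.pullback f).obj E))) :=
        (T.mapHomologicalComplex (ComplexShape.down ℕ)).map π ≫
          ((HomologicalComplex.singleMapHomologicalComplex T (ComplexShape.down ℕ) 0).app _).hom ≫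
            (ChainComplex.single₀ Y.Modules).map (projIso f F E).hom
      have hL' : KRR.IsLFRes _ n L' π' :=
        { finLocFree := fun i => isFinLocFree_tensor (hL.finLocFree i) hE
          isZero := fun i hi => T.map_isZero (hL.isZero i hi)
          quasiIso := inferInstance }
      rw [hg E hE, hmX F _ hF (PullbackMod.isFinLocFree_pullback f E hE),
        hh _ (isFinLocFree_tensor hF (PullbackMod.isFinLocFree_pullback f E hE)) n L' π' hL',
        hh F hF n L π hL, Finset.sum_mul]
      refine Finset.sum_congr rfl fun k _ => ?_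
      rw [smul_mul_assoc, hmY _ E (hL.finLocFree k) hE]
      rfl
  have : h.comp ((AddMonoidHom.mulLeft (φX a)).comp (g.comp φY)) = (AddMonoidHom.mulLeft (h (φX a))).comp φY :=
    addMonoidHom_ext_cl fun E hE => DFunLike.congr_fun (key E hE) a
  exact DFunLike.congr_fun this b

/-- The value of the push-forward on a bundle, in `K₀` of modules of finite projective dimension. -/
theorem pushCl_value (f : X ⟶ Y) (hf : Mor2.IsRegularClosedImmersion f) [CompactSpace X]
    (hYe : KRR.HasEnoughLocFree Y) {KX KY : Type*} [CommRing KX] [CommRing KY] (φX : SGA6.Kvb X →+ KX)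
    (φY : SGA6.Kvb Y →+ KY) (h : KX →+ KY) (hh : KRR.IsPushCl f φX φY h) (eY : SGA6.Kvb Y ≃+ KZero.K0sub (PDfin (X := Y)))
    (heY : ∀ M : Y.Modules, FlatMod.IsFinLocFree M → eY (KRR.cl Y M) = KZero.clSub PDfin M)
    (F : X.Modules) (hF : FlatMod.IsFinLocFree F) :
    h (φX (KRR.cl X F)) = φY (eY.symm (KZero.clSub PDfin ((Scheme.Modules.pushforward f).obj F))) := by
  obtain ⟨n, L, π, hL⟩ := exists_lfRes_push f hf hYe F hF
  rw [hh F hF n L π hL, clSub_euler hL]
  simp only [map_sum, map_zsmul]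
  refine Finset.sum_congr rfl fun k _ => ?_
  rw [← heY _ (hL.finLocFree k), AddEquiv.symm_apply_apply]

/-- The equivalence of `K₀` of bundles with `K₀` of modules of finite projective dimension. -/
theorem exists_equiv_PDfin (hYe : KRR.HasEnoughLocFree Y) :
    ∃ eY : SGA6.Kvb Y ≃+ KZero.K0sub (PDfin (X := Y)),
      ∀ M : Y.Modules, FlatMod.IsFinLocFree M → eY (KRR.cl Y M) = KZero.clSub PDfin M := by
  have hle : ∀ M : Y.Modules, KRR.vbP Y M → PDfin M := fun M hM => ⟨0, (pd_zero_iff _).2 hM⟩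
  have hbij := K0ResLib.bijective (hyp hYe) hle fun A hA => by
    obtain ⟨n, hn⟩ := hA
    exact ⟨n, D_of_PD n A hn⟩
  exact ⟨AddEquiv.ofBijective _ hbij, fun M hM => mapSub_cl (𝟭 Y.Modules) (KRR.vbP Y) PDfin hle hM⟩

theorem pushCl_comp (f : X ⟶ Y) (g : Y ⟶ Z) (hf : Mor2.IsRegularClosedImmersion f)
    (hg : Mor2.IsRegularClosedImmersion g) [CompactSpace X] [CompactSpace Y] [IsLocallyNoetherian Z]
    (hYe : KRR.HasEnoughLocFree Y) (hZe : KRR.HasEnoughLocFree Z)
    {KX KY KZ : Type*} [CommRing KX] [CommRing KY] [CommRing KZ] (φX : SGA6.Kvb X →+ KX) (hφX : Function.Bijective φX)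
    (φY : SGA6.Kvb Y →+ KY) (φZ : SGA6.Kvb Z →+ KZ)
    (a : KX →+ KY) (ha : KRR.IsPushCl f φX φY a) (b : KY →+ KZ) (hb : KRR.IsPushCl g φY φZ b)
    (c : KX →+ KZ) (hc : KRR.IsPushCl (f ≫ g) φX φZ c) : c = b.comp a := by
  haveI := hf.1
  haveI := hg.1
  obtain ⟨eZ, heZ⟩ := exists_equiv_PDfin hZe
  have key : c.comp φX = (b.comp a).comp φX := addMonoidHom_ext_cl fun F hF => by
    obtain ⟨n, L, π, hL⟩ := exists_lfRes_push f hf hYe F hF
    haveI := hL.quasiIso
    let G := Scheme.Modules.pushforward g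
    let L' := (G.mapHomologicalComplex (ComplexShape.down ℕ)).obj L
    let π' : L' ⟶ (ChainComplex.single₀ Z.Modules).obj ((Scheme.Modules.pushforward (f ≫ g)).obj F) :=
      (G.mapHomologicalComplex (ComplexShape.down ℕ)).map π ≫
        ((HomologicalComplex.singleMapHomologicalComplex G (ComplexShape.down ℕ) 0).app _).hom ≫
          (ChainComplex.single₀ Z.Modules).map ((Scheme.Modules.pushforwardComp f g).hom.app F)
    haveI : QuasiIso π' := inferInstance
    obtain ⟨hM, hs⟩ := clSub_euler_PDfin (n := n) π' (fun i => pdFin_pushforward g hg _ (hL.finLocFree i))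
      (fun i hi => G.map_isZero (hL.isZero i hi))
    obtain ⟨m, hm⟩ := hM
    obtain ⟨N, ρ, hN⟩ := hasLFRes_of_PD hZe m _ hm
    show c (φX (KRR.cl X F)) = b (a (φX (KRR.cl X F)))
    rw [ha F hF n L π hL, hc F hF m N ρ hN]
    simp only [map_sum, map_zsmul]
    have e1 := hs.symm.trans (clSub_euler hN)
    have e2 := congrArg (fun z => φZ (eZ.symm z)) e1
    simp only [map_sum, map_zsmul] at e2
    refine Eq.trans ?_ (e2.symm.trans ?_)
    · refine Finset.sum_congr rfl fun k _ => ?_
      rw [← heZ _ (hN.finLocFree k), AddEquiv.symm_apply_apply]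
    · refine Finset.sum_congr rfl fun k _ => ?_
      rw [pushCl_value g hg hZe φY φZ b hb eZ heZ _ (hL.finLocFree k)]
      rfl
  ext x
  obtain ⟨z, rfl⟩ := hφX.2 x
  exact DFunLike.congr_fun key z

end Groth.Agent.KRRAmple
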