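import Groth.Agent.KRRAmple.Cover
import Groth.Agent.DCohLib.PCTop
import Groth.Agent.DCohLib.FlatPerf
import Groth.Agent.KFlat.QuasiIso
import Groth.Agent.KFlat.Resolution
import Groth.Agent.DCohLib.SuppOpen
import Groth.Agent.BCLib.SteinFlat

/-!
# Euler characteristics in K₀ and nilpotence
-/

set_option autoImplicit false
set_option linter.style.haveILetI false
set_option backward.isDefEq.respectTransparency false

universe v u

open CategoryTheory CategoryTheory.Limits AlgebraicGeometry MonoidalCategory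
open Groth.Agent.PullbackMod Groth.Agent.DCohLib

noncomputable section

namespace Groth.Agent.KRRAmple

variable {X : Scheme.{u}} {K : Type v} [CommRing K] [LambdaRing.LambdaOps K]
  {P : LambdaRing.PosStructure K} {φ : SGA6.Kvb X →+ K}

/-- The class of a module in `K`. -/
abbrev kl (φ : SGA6.Kvb X →+ K) (M : X.Modules) : K := φ (KRR.cl X M)

theorem kl_add {S : ShortComplex X.Modules} (hS : S.ShortExact) (h₁ : FlatMod.IsFinLocFree S.X₁)
    (h₂ : FlatMod.IsFinLocFree S.X₂) (h₃ : FlatMod.IsFinLocFree S.X₃) :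
    kl φ S.X₂ = kl φ S.X₁ + kl φ S.X₃ :=
  (congrArg φ (K0ResLib.clSub_add (P := KRR.vbP X) hS h₁ h₂ h₃)).trans (map_add φ _ _)

theorem kl_isZero {M : X.Modules} (h : IsZero M) : kl φ M = 0 := by
  have := kl_add (φ := φ) (S := ShortComplex.mk (𝟙 M) (𝟙 M) (h.eq_of_src _ _))
    { exact := ShortComplex.exact_of_isZero_X₂ _ h } (isFinLocFree_of_isZero h) (isFinLocFree_of_isZero h)
    (isFinLocFree_of_isZero h)
  simpa using this

theorem kl_iso {M N : X.Modules} (e : M ≅ N) (hM : FlatMod.IsFinLocFree M) : kl φ N = kl φ M := by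
  have hz : IsZero (kernel e.hom) := isZero_kernel_of_mono _
  have hS : (K0ResLib.kerSC e.hom).ShortExact := K0ResLib.kerSC_shortExact e.hom
  have h : kl φ M = kl φ (kernel e.hom) + kl φ N :=
    kl_add (φ := φ) hS (isFinLocFree_of_isZero hz) hM (isFinLocFree_iso e hM)
  rw [h, kl_isZero hz, zero_add]

theorem kl_biprod {M N : X.Modules} (hM : FlatMod.IsFinLocFree M) (hN : FlatMod.IsFinLocFree N) :
    kl φ (M ⊞ N) = kl φ M + kl φ N :=
  kl_add (φ := φ) (S := ShortComplex.mk (biprod.inl : M ⟶ M ⊞ N) biprod.snd biprod.inl_snd)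
    (ShortComplex.Splitting.ofHasBinaryBiproduct M N).shortExact hM (isFinLocFree_biprod hM hN) hN

/-- The Euler characteristic of the terms in `[a, a + n]`. -/
def eul (φ : SGA6.Kvb X →+ K) (E : CochainComplex X.Modules ℤ) (a : ℤ) : ℕ → K
  | 0 => kl φ (E.X a)
  | n + 1 => kl φ (E.X a) - eul φ E (a + 1) n

theorem eul_eq_zero_of_exact {E : CochainComplex X.Modules ℤ} (hf : ∀ i, FlatMod.IsFinLocFree (E.X i))
    (b : ℤ) (hb : ∀ i, b < i → IsZero (E.X i)) (hex : E.Acyclic) :
    ∀ (n : ℕ) (a : ℤ), a + n = b → eul φ E a n = kl φ (E.cycles a) := by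
  have hZ : ∀ i, FlatMod.IsFinLocFree (E.cycles i) := fun i =>
    isFinLocFree_cycles hf b hb ((b - i).toNat + 1) i (fun j _ => hex j) (by omega)
  have step : ∀ i, kl φ (E.X i) = kl φ (E.cycles i) + kl φ (E.cycles (i + 1)) := fun i =>
    kl_add (φ := φ) (shortExact_cyclesSeqZ_of_exactAt E i (i + 1) rfl (hex (i + 1))) (hZ i) (hf i) (hZ (i + 1))
  intro n
  induction n with
  | zero =>
    intro a ha
    rw [eul, step a, kl_isZero (IsZero.of_mono (E.iCycles (a + 1)) (hb _ (by omega))), add_zero]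
  | succ n ih =>
    intro a ha
    rw [eul, ih (a + 1) (by omega), step a]
    ring

/-- The stalk complex is exact. -/
def ExStalk (E : CochainComplex X.Modules ℤ) (x : X) : Prop :=
  (((stkF x).mapHomologicalComplex (ComplexShape.up ℤ)).obj E).Acyclic

theorem acyclic_of_exStalk {E : CochainComplex X.Modules ℤ} (h : ∀ x, ExStalk E x) : E.Acyclic := fun i => by
  rw [HomologicalComplex.exactAt_iff_isZero_homology]
  refine isZero_of_stalks fun x => ?_
  refine ModuleCat.subsingleton_of_isZero (M := (stkF x).obj (E.homology i)) ?_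
  exact ((HomologicalComplex.exactAt_iff_isZero_homology _ _).1 (h x i)).of_iso
    ((E.sc i).mapHomologyIso (stkF x)).symm

/-- Stalks of a tensor product with a fixed module. -/
def stalkTensorFlipIso (G : X.Modules) (x : X) :
    (DCoh.tensorBi (X := X)).flip.obj G ⋙ stkF x ≅ stkF x ⋙ tensorRight ((stkF x).obj G) :=
  NatIso.ofComponents (fun M => (stalkTensor x M G).symm.toModuleIso) fun {M M'} g => by
    refine ModuleCat.hom_ext (LinearMap.ext fun z => ?_)
    obtain ⟨w, rfl⟩ := (stalkTensor x M G).surjective z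
    show (stalkTensor x M' G).symm (stalkLin (((DCoh.tensorBi (X := X)).map g).app G) x (stalkTensor x M G w)) =
      (stalkLin g x).rTensor _ ((stalkTensor x M G).symm (stalkTensor x M G w))
    rw [stalkTensor_natural_left, LinearEquiv.symm_apply_apply, LinearEquiv.symm_apply_apply]

theorem exStalk_tensor {E : CochainComplex X.Modules ℤ} {x : X} (h : ExStalk E x) {G : X.Modules}
    (hG : FlatMod.IsFinLocFree G) :
    ExStalk ((((DCoh.tensorBi (X := X)).flip.obj G).mapHomologicalComplex (ComplexShape.up ℤ)).obj E) x := by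
  haveI : Module.Flat (X.presheaf.stalk x) ((stkF x).obj G) := PullbackMod.isFlat_of_isFinLocFree G hG x
  intro i
  refine (HomologicalComplex.exactAt_iff _ _).2 (ShortComplex.exact_of_iso
    ((E.sc i).mapNatIso (stalkTensorFlipIso G x)).symm ?_)
  have h1 := (HomologicalComplex.exactAt_iff _ _).1 (h i)
  rw [ShortComplex.ShortExact.moduleCat_exact_iff_function_exact] at h1 ⊢
  exact Module.Flat.rTensor_exact ((stkF x).obj G) h1

/-- The complex obtained by tensoring with the two-term complex of a map. -/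
abbrev coneTensor {F G : X.Modules} (q : F ⟶ G) (E : CochainComplex X.Modules ℤ) : CochainComplex X.Modules ℤ :=
  CochainComplex.mappingCone
    ((NatTrans.mapHomologicalComplex ((DCoh.tensorBi (X := X)).flip.map q) (ComplexShape.up ℤ)).app E)

theorem exStalk_coneTensor {F G : X.Modules} (q : F ⟶ G) {E : CochainComplex X.Modules ℤ} {x : X}
    (hF : FlatMod.IsFinLocFree F) (hG : FlatMod.IsFinLocFree G)
    (h : ExStalk E x ∨ Function.Bijective (stalkLin q x)) : ExStalk (coneTensor q E) x := by
  let τ := ((NatTrans.mapHomologicalComplex ((DCoh.tensorBi (X := X)).flip.map q) (ComplexShape.up ℤ)).app E)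
  let Φ := (stkF x).mapHomologicalComplex (ComplexShape.up ℤ)
  have hqi : QuasiIso (Φ.map τ) := by
    rcases h with h | h
    · exact ⟨fun i => (quasiIsoAt_iff_exactAt' _ i (exStalk_tensor h hG i)).2 (exStalk_tensor h hF i)⟩
    · haveI : ∀ i, IsIso ((Φ.map τ).f i) := fun i => by
        refine (ConcreteCategory.isIso_iff_bijective _).2 ?_
        show Function.Bijective (stalkLin (((DCoh.tensorBi (X := X)).obj (E.X i)).map q) x)
        let ε := LinearEquiv.ofBijective (stalkLin q x) h
        have heq : ⇑(stalkLin (((DCoh.tensorBi (X := X)).obj (E.X i)).map q) x) =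
            stalkTensor x (E.X i) G ∘ (ε.lTensor _) ∘ (stalkTensor x (E.X i) F).symm := funext fun z => by
          obtain ⟨w, rfl⟩ := (stalkTensor x (E.X i) F).surjective z
          rw [stalkTensor_natural_right]
          simp [ε]
          rfl
        rw [heq]
        exact (stalkTensor x _ _).bijective.comp ((ε.lTensor _).bijective.comp (stalkTensor x _ _).symm.bijective)
      haveI : IsIso (Φ.map τ) := HomologicalComplex.Hom.isIso_of_components _
      infer_instance
  haveI := hqi
  exact fun i => (KFlat.acyclic_cone_of_quasiIso (Φ.map τ) i).of_iso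
    (CochainComplex.mappingCone.mapHomologicalComplexIso τ (stkF x)).symm

theorem coneTensor_spec (hK : KRR.IsModel X K P φ) {F G : X.Modules} (q : F ⟶ G)
    {E : CochainComplex X.Modules ℤ} (hf : ∀ i, FlatMod.IsFinLocFree (E.X i))
    (hF : FlatMod.IsFinLocFree F) (hG : FlatMod.IsFinLocFree G) {a : ℤ} {n : ℕ}
    (hz : ∀ i, i < a ∨ a + n < i → IsZero (E.X i)) :
    (∀ i, FlatMod.IsFinLocFree ((coneTensor q E).X i)) ∧
    (∀ i, i < a - 1 ∨ (a - 1) + (n + 1 : ℕ) < i → IsZero ((coneTensor q E).X i)) ∧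
    eul φ (coneTensor q E) (a - 1) (n + 1) = (kl φ F - kl φ G) * eul φ E a n := by
  let A := fun i : ℤ => ((DCoh.tensorBi (X := X)).obj (E.X i)).obj F
  let B := fun i : ℤ => ((DCoh.tensorBi (X := X)).obj (E.X i)).obj G
  have hA : ∀ i, FlatMod.IsFinLocFree (A i) := fun i => isFinLocFree_tensor (hf i) hF
  have hB : ∀ i, FlatMod.IsFinLocFree (B i) := fun i => isFinLocFree_tensor (hf i) hG
  let e : ∀ i, (coneTensor q E).X i ≅ A (i + 1) ⊞ B i := fun i =>
    HomologicalComplex.homotopyCofiber.XIsoBiprod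
      ((NatTrans.mapHomologicalComplex ((DCoh.tensorBi (X := X)).flip.map q) (ComplexShape.up ℤ)).app E) i (i + 1) rfl
  have hzA : ∀ i, i < a ∨ a + n < i → IsZero (A i) := fun i hi =>
    ((DCoh.tensorBi (X := X)).flip.obj F).map_isZero (hz i hi)
  have hzB : ∀ i, i < a ∨ a + n < i → IsZero (B i) := fun i hi =>
    ((DCoh.tensorBi (X := X)).flip.obj G).map_isZero (hz i hi)
  have hkl : ∀ i, kl φ ((coneTensor q E).X i) = kl φ (E.X (i + 1)) * kl φ F + kl φ (E.X i) * kl φ G := fun i => by
    rw [kl_iso (φ := φ) (e i).symm (isFinLocFree_biprod (hA _) (hB _)), kl_biprod (hA _) (hB _)]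
    exact congrArg₂ (· + ·) (hK.map_mul _ _ (hf _) hF).symm (hK.map_mul _ _ (hf _) hG).symm
  refine ⟨fun i => isFinLocFree_iso (e i).symm (isFinLocFree_biprod (hA _) (hB _)), fun i hi =>
    ((biprod_isZero_iff _ _).2 ⟨hzA (i + 1) (by omega), hzB i (by omega)⟩).of_iso (e i), ?_⟩
  have key : ∀ (k : ℕ) (c : ℤ), c + k = a + n →
      eul φ (coneTensor q E) c k = kl φ (E.X c) * kl φ G + (kl φ F - kl φ G) * (eul φ E c k - kl φ (E.X c)) * (-1) := by
    intro k
    induction k with
    | zero =>
      intro c hc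
      rw [eul, hkl, kl_isZero (hz (c + 1) (Or.inr (by omega))), eul]
      ring
    | succ k ih =>
      intro c hc
      rw [eul, ih (c + 1) (by omega), hkl, eul]
      ring
  rw [eul, hkl, key n (a - 1 + 1) (by omega), sub_add_cancel, kl_isZero (hz (a - 1) (Or.inl (by omega)))]
  ring

/-- A globally generated bundle minus its rank is nilpotent. -/
theorem isNilpotent_sub_rank [CompactSpace X] (hK : KRR.IsModel X K P φ) {G : X.Modules} {m : ℕ}
    (hG : FlatMod.IsFinLocFreeOfRank m G) (hg : Curv2.IsGloballyGenerated G) :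
    IsNilpotent (kl φ G - m) := by
  obtain ⟨N, σ, hσ⟩ := exists_frames hG hg
  have hG' : FlatMod.IsFinLocFree G := fun x => (let ⟨U, hU, e⟩ := hG x; ⟨U, _, hU, e⟩)
  have hrec : ∀ k : ℕ, k ≤ N → ∃ E : CochainComplex X.Modules ℤ, (∀ i, FlatMod.IsFinLocFree (E.X i)) ∧
      (∀ i, i < -(k : ℤ) ∨ -(k : ℤ) + k < i → IsZero (E.X i)) ∧
      eul φ E (-(k : ℤ)) k = ((m : K) - kl φ G) ^ k ∧
      ∀ (x : X) (t : Fin N), (t : ℕ) < k → Function.Bijective (stalkLin (tupHom G (σ t)) x) → ExStalk E x := by
    intro k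
    induction k with
    | zero =>
      intro _
      refine ⟨(HomologicalComplex.single X.Modules (ComplexShape.up ℤ) 0).obj (Coh.structureModule X),
        fun i => ?_, fun i hi => HomologicalComplex.isZero_single_obj_X (ComplexShape.up ℤ) 0 _ i (by omega), ?_,
        fun x t ht => absurd ht (Nat.not_lt_zero _)⟩
      · rcases eq_or_ne i 0 with rfl | hi
        · exact isFinLocFree_iso (HomologicalComplex.singleObjXSelf (ComplexShape.up ℤ) 0 _).symm
            (BCLib.isFinLocFree_structureModule X)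
        · exact isFinLocFree_of_isZero (HomologicalComplex.isZero_single_obj_X (ComplexShape.up ℤ) 0 _ i hi)
      · simp only [Nat.cast_zero, neg_zero, eul, pow_zero]
        rw [kl_iso (HomologicalComplex.singleObjXSelf (ComplexShape.up ℤ) 0 (Coh.structureModule X)).symm
          (BCLib.isFinLocFree_structureModule X)]
        exact hK.map_one
    | succ k ih =>
      intro hk
      obtain ⟨E, hf, hz, he, hex⟩ := ih (by omega)
      let q := tupHom G (σ ⟨k, by omega⟩)
      obtain ⟨h1, h2, h3⟩ := coneTensor_spec hK q hf (isFinLocFree_freeMod m) hG' hz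
      refine ⟨coneTensor q E, h1, fun i hi => h2 i (by push_cast at hi ⊢; omega), ?_, fun x t ht hb =>
        exStalk_coneTensor q (isFinLocFree_freeMod m) hG' ?_⟩
      · rw [show (-((k + 1 : ℕ) : ℤ)) = -(k : ℤ) - 1 by push_cast; ring, h3, he, pow_succ', kl, kl,
          map_freeMod hK m]
      · rcases Nat.lt_succ_iff_lt_or_eq.1 ht with h | h
        · exact Or.inl (hex x t h hb)
        · refine Or.inr ?_
          have : t = ⟨k, by omega⟩ := Fin.ext h
          rw [this] at hb
          exact hb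
  obtain ⟨E, hf, hz, he, hex⟩ := hrec N le_rfl
  have hac : E.Acyclic := acyclic_of_exStalk fun x => by
    obtain ⟨t, ht⟩ := hσ x
    exact hex x t t.2 ht
  have h0 : IsZero (E.cycles (-(N : ℤ))) := by
    haveI : Epi (E.toCycles (-(N : ℤ) - 1) (-(N : ℤ))) :=
      (shortExact_cyclesSeqZ_of_exactAt E (-(N : ℤ) - 1) (-(N : ℤ)) (by omega) (hac _)).epi_g
    exact IsZero.of_epi (E.toCycles (-(N : ℤ) - 1) (-(N : ℤ))) (hz _ (Or.inl (by omega)))
  rw [eul_eq_zero_of_exact hf (-(N : ℤ) + N) (fun i hi => hz i (Or.inr hi)) hac N (-(N : ℤ)) rfl,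
    kl_isZero h0] at he
  exact ⟨N, by rw [← neg_sub, neg_pow, ← he, mul_zero]⟩

end Groth.Agent.KRRAmple
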