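import Groth.Agent.KRRAmple.Nilp

/-!
# Sub-λ-rings generated by finitely many bundles
-/

set_option autoImplicit false
set_option linter.style.haveILetI false

universe v u

open LambdaRing

noncomputable section

namespace Groth.Agent.KRRAmple

variable {K : Type v} [CommRing K] [LambdaOps K] (P : PosStructure K)

include P in
theorem lam_add_one (x : K) (j : ℕ) :
    LambdaOps.lam (j + 1) (x + 1) = LambdaOps.lam (j + 1) x + LambdaOps.lam j x := by
  rw [LambdaOps.lam_add, Finset.sum_range_succ, Finset.sum_range_succ]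
  have h1 : ∀ i ∈ Finset.range j, LambdaOps.lam i x * LambdaOps.lam (j + 1 - i) (1 : K) = 0 := fun i hi => by
    rw [P.lam_eq_zero 1 (by simpa using P.natCast_mem 1 one_pos) (j + 1 - i)
      (by rw [map_one]; have := Finset.mem_range.1 hi; omega), mul_zero]
  rw [Finset.sum_eq_zero h1, zero_add, Nat.sub_self, LambdaOps.lam_zero, show j + 1 - j = 1 by omega,
    LambdaOps.lam_one, mul_one, mul_one, add_comm]

/-- Finitely many positive-up-to-one elements generate a finite sub-λ-ring with nilpotent augmentation ideal. -/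
theorem lam_closure_nilpotent_fg (hnil : ∀ x : K, P.aug x = 0 → IsNilpotent x) {k : ℕ} (e : Fin k → K)
    (he : ∀ i, e i + 1 ∈ P.pos) :
    let R := Subring.closure {y : K | ∃ (i : Fin k) (j : ℕ), y = LambdaOps.lam j (e i)}
    (∃ n : ℕ, ∀ f : Fin n → K, (∀ t, f t ∈ R ∧ P.aug (f t) = 0) → ∏ t, f t = 0) ∧ R.toAddSubgroup.FG := by
  intro R
  classical
  let d := fun i => (P.aug (e i + 1)).toNat
  let G : Finset K := Finset.univ.biUnion fun i : Fin k =>
    (Finset.range (d i + 1)).image fun j => LambdaOps.lam j (e i + 1)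
  let S := Algebra.adjoin ℤ (G : Set K)
  have hmem : ∀ i j, LambdaOps.lam j (e i) ∈ S := fun i j => by
    induction j with
    | zero => rw [LambdaOps.lam_zero]; exact one_mem S
    | succ j ih =>
      rw [eq_sub_of_add_eq (lam_add_one P (e i) j).symm]
      refine sub_mem ?_ ih
      by_cases hj : j + 1 ≤ d i
      · exact Algebra.subset_adjoin (Finset.mem_biUnion.2 ⟨i, Finset.mem_univ i,
          Finset.mem_image.2 ⟨j + 1, Finset.mem_range.2 (by omega), rfl⟩⟩)
      · rw [P.lam_eq_zero _ (he i) _ (by
          have := P.aug_pos _ (he i)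
          simp only [d] at hj
          omega)]
        exact zero_mem S
  have hR : ∀ z ∈ R, z ∈ S := fun z hz =>
    (Subring.closure_le (t := S.toSubring)).2 (by rintro _ ⟨i, j, rfl⟩; exact hmem i j) hz
  let T : Ideal K := Ideal.span (↑(G.image fun g => g - (P.aug g : K)) : Set K)
  have hTn : T ≤ nilradical K := Ideal.span_le.2 fun z hz => by
    obtain ⟨g, -, rfl⟩ := Finset.mem_image.1 (Finset.mem_coe.1 hz)
    exact hnil _ (by simp)
  have hsub : ∀ z ∈ S, z - (P.aug z : K) ∈ T := fun z hz => by
    induction hz using Algebra.adjoin_induction with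
    | mem g hg => exact Ideal.subset_span (Finset.mem_coe.2 (Finset.mem_image_of_mem _ (Finset.mem_coe.1 hg)))
    | algebraMap n => simp [algebraMap_int_eq]
    | add a b _ _ ha hb =>
      rw [map_add, Int.cast_add, add_sub_add_comm]
      exact add_mem ha hb
    | mul a b _ _ ha hb =>
      rw [map_mul, Int.cast_mul, show a * b - (P.aug a : K) * (P.aug b : K) =
        (a - (P.aug a : K)) * b + (P.aug a : K) * (b - (P.aug b : K)) by ring]
      exact add_mem (T.mul_mem_right _ ha) (T.mul_mem_left _ hb)
  have hTfg : T.FG := ⟨_, rfl⟩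
  obtain ⟨n, hn⟩ := Ideal.exists_pow_le_of_le_radical_of_fg (I := T) (J := (⊥ : Ideal K))
    (by simpa [nilradical] using hTn) hTfg
  refine ⟨⟨n, fun f hf => ?_⟩, ?_⟩
  · have h : ∏ t, f t ∈ T ^ (Finset.univ : Finset (Fin n)).card := by
      rw [← Finset.prod_const]
      exact Ideal.prod_mem_prod fun t _ => by simpa [(hf t).2] using hsub _ (hR _ (hf t).1)
    rw [Finset.card_univ, Fintype.card_fin] at h
    simpa using hn h
  · have hS : (Subalgebra.toSubmodule S).FG := fg_adjoin_of_finite G.finite_toSet fun g _ => by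
      have hg : IsNilpotent (g - (P.aug g : K)) := hnil _ (by simp)
      obtain ⟨m, hm⟩ := hg
      refine ⟨(Polynomial.X - Polynomial.C (P.aug g)) ^ m, (Polynomial.monic_X_sub_C _).pow m, ?_⟩
      rw [Polynomial.eval₂_pow, Polynomial.eval₂_sub, Polynomial.eval₂_X, Polynomial.eval₂_C]
      simpa [algebraMap_int_eq] using hm
    haveI : Module.Finite ℤ (Subalgebra.toSubmodule S) := Module.Finite.iff_fg.2 hS
    haveI : IsNoetherian ℤ (Subalgebra.toSubmodule S) := isNoetherian_of_isNoetherianRing_of_finite ℤ _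
    have hfg : (AddSubgroup.toIntSubmodule R.toAddSubgroup).FG :=
      (isNoetherian_submodule (N := Subalgebra.toSubmodule S)).1 inferInstance _ fun z hz => hR z hz
    exact (Submodule.fg_iff_addSubgroup_fg _).1 hfg

end Groth.Agent.KRRAmple
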