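import Groth.Agent.KRRAmple.Resolvable
import Groth.Agent.RegLocal.GlobalDim
import Groth.Agent.DCohLib.StalkRestrictFree
import Groth.Agent.DCohLib.BettiExact

/-!
# Coherent modules on regular schemes
-/

set_option autoImplicit false
set_option linter.style.haveILetI false
set_option backward.isDefEq.respectTransparency false

universe u

open CategoryTheory CategoryTheory.Limits AlgebraicGeometry
open Groth.Agent.DCohLib

noncomputable section

namespace Groth.Agent.KRRAmple

variable {X : Scheme.{u}} [IsLocallyNoetherian X]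

/-- The points where the `k`-th step of the dévissage is finite locally free. -/
theorem exists_open_pd (hX : KRR.HasEnoughLocFree X) : ∀ (k : ℕ) (M : X.Modules), Coh.IsCoh M → ∀ x : X,
    HasProjectiveDimensionLE ((stkF x).obj M) k → ∃ U : X.Opens, x ∈ U ∧ ∀ y ∈ U, HasProjectiveDimensionLE ((stkF y).obj M) k
  | 0, M, hM, x, h => by
    haveI : Projective ((stkF x).obj M) := (projective_iff_hasProjectiveDimensionLE_zero _).2 h
    haveI : Module.Projective (X.presheaf.stalk x) ((stkF x).obj M) := (IsProjective.iff_projective _).2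
      (show Projective (ModuleCat.of (X.presheaf.stalk x) ((stkF x).obj M)) from inferInstance)
    haveI := hM.1
    obtain ⟨U, n, hxU, ⟨e⟩⟩ := FlatLocus.exists_free_nhd M ((QCohLib.isCoh_iff_isFP M).1 hM) x
      (Module.Flat.of_projective : Module.Flat (X.presheaf.stalk x) ((stkF x).obj M))
    refine ⟨U, hxU, fun y hy => ?_⟩
    have hU : FlatMod.IsFinLocFree ((Scheme.Modules.restrictFunctor U.ι).obj M) :=
      isFinLocFree_iso e.symm (isFinLocFree_freeMod n)
    have h1 := (free_finite_stalk_restrict_iff U.ι M ⟨y, hy⟩).1 (free_finite_stalk_of_flf hU ⟨y, hy⟩)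
    haveI := h1.1
    haveI : Module.Free (X.presheaf.stalk y) ((stkF y).obj M) := h1.1
    exact (projective_iff_hasProjectiveDimensionLE_zero _).1
      ((IsProjective.iff_projective ((stkF y).obj M)).1 Module.Projective.of_free)
  | k + 1, M, hM, x, h => by
    obtain ⟨E, p, hE, hp⟩ := hX M hM
    haveI := hp
    have hS := K0ResLib.kerSC_shortExact p
    have hK := isCoh_X₁ hS (DCohLib.isCoh_of_isFinLocFree hE) hM
    have hE' : ∀ y : X, HasProjectiveDimensionLE ((stkF y).obj E) k := fun y =>
      (((pd_zero_iff _).2 hE).mono (Nat.zero_le k)).2 y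
    obtain ⟨U, hxU, hU⟩ := exists_open_pd hX k (kernel p) hK x
      ((stalk_shortExact hS x).hasProjectiveDimensionLT_X₁ _ (hE' x) h)
    exact ⟨U, hxU, fun y hy => (stalk_shortExact hS y).hasProjectiveDimensionLT_X₃ _ (hU y hy)
      (haveI := hE' y; hasProjectiveDimensionLT_of_ge ((stkF y).obj E) (k + 1) (k + 1 + 1) (by omega))⟩

theorem pdFin_of_isCoh [CompactSpace X] (hX : KRR.HasEnoughLocFree X)
    (hreg : ∀ x : X, IsRegularLocalRing (X.presheaf.stalk x)) (M : X.Modules) (hM : Coh.IsCoh M) : PDfin M := by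
  have : ∀ x : X, ∃ (k : ℕ) (U : X.Opens), x ∈ U ∧ ∀ y ∈ U, HasProjectiveDimensionLE ((stkF y).obj M) k := fun x => by
    haveI := hreg x
    exact ⟨_, exists_open_pd hX _ M hM x (RegLocal.hasProjectiveDimensionLT (X.presheaf.stalk x) _
      IsRegularLocalRing.spanFinrank_maximalIdeal.symm _)⟩
  choose k U hxU hU using this
  obtain ⟨t, ht⟩ := isCompact_univ.elim_finite_subcover (fun z => (U z : Set X)) (fun z => (U z).2)
    (fun z _ => Set.mem_iUnion.2 ⟨z, hxU z⟩)
  refine ⟨t.sup k, hM, fun y => ?_⟩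
  obtain ⟨z, hz, hyz⟩ := Set.mem_iUnion₂.1 (ht (Set.mem_univ y))
  haveI := hU z y hyz
  exact hasProjectiveDimensionLT_of_ge _ (k z + 1) _ (by simpa using Finset.le_sup (f := k) hz)

theorem poincare_bijective [CompactSpace X] (hX : KRR.HasEnoughLocFree X)
    (hreg : ∀ x : X, IsRegularLocalRing (X.presheaf.stalk x))
    (h : ∀ M : X.Modules, FlatMod.IsFinLocFree M → Coh.IsCoh M) :
    Function.Bijective (SGA6.mapSub (𝟭 X.Modules) (KRR.vbP X) (fun M : X.Modules => Coh.IsCoh M) h) := by
  have heq : (PDfin (X := X)) = fun M : X.Modules => Coh.IsCoh M :=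
    funext fun M => propext ⟨fun ⟨_, hn⟩ => hn.1, pdFin_of_isCoh hX hreg M⟩
  have H := hyp hX
  rw [heq] at H
  exact K0ResLib.bijective H h fun A hA => by
    obtain ⟨n, hn⟩ := pdFin_of_isCoh hX hreg A hA
    have := D_of_PD n A hn
    rw [heq] at this
    exact ⟨n, this⟩

end Groth.Agent.KRRAmple
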