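import Groth.Agent.K0ResLib.Basic
import Groth.Agent.DCohLib.PerfCoh
import Groth.Agent.DCohLib.SPerf
import Groth.Agent.DerSchH7.StalkPerf
import Groth.Agent.QCohLib.Coherent
import Groth.Prelude.Def_KRR
import Mathlib.CategoryTheory.Abelian.Projective.Dimension
import Mathlib.CategoryTheory.Abelian.Projective.Resolution

/-!
# Coherent modules with finite locally free resolutions
-/

set_option autoImplicit false
set_option linter.style.haveILetI false
set_option backward.isDefEq.respectTransparency false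

universe u

open CategoryTheory CategoryTheory.Limits AlgebraicGeometry
open Groth.Agent.DCohLib

noncomputable section

namespace Groth.Agent.KRRAmple

variable {X : Scheme.{u}}

/-- Coherent with stalks of projective dimension at most `n`. -/
def PD (n : ℕ) (M : X.Modules) : Prop :=
  Coh.IsCoh M ∧ ∀ x : X, HasProjectiveDimensionLE ((stkF x).obj M) n

theorem PD.mono {n m : ℕ} (h : n ≤ m) {M : X.Modules} (hM : PD n M) : PD m M :=
  ⟨hM.1, fun x => haveI := hM.2 x; hasProjectiveDimensionLT_of_ge _ (n + 1) _ (by omega)⟩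

theorem pd_zero_iff [IsLocallyNoetherian X] (M : X.Modules) : PD 0 M ↔ FlatMod.IsFinLocFree M := by
  constructor
  · intro h
    refine (PullbackMod.isFinLocFree_iff M).2 ⟨h.1.1, (QCohLib.isCoh_iff_isFP M).1 h.1, fun x => ?_⟩
    haveI : Projective ((stkF x).obj M) := (projective_iff_hasProjectiveDimensionLE_zero _).2 (h.2 x)
    haveI : Module.Projective (X.presheaf.stalk x) ((stkF x).obj M) := (IsProjective.iff_projective _).2
      (show Projective (ModuleCat.of (X.presheaf.stalk x) ((stkF x).obj M)) from inferInstance)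
    exact (Module.Flat.of_projective : Module.Flat (X.presheaf.stalk x) ((stkF x).obj M))
  · intro h
    refine ⟨DCohLib.isCoh_of_isFinLocFree h, fun x => ?_⟩
    exact (projective_iff_hasProjectiveDimensionLE_zero _).1
      ((IsProjective.iff_projective ((stkF x).obj M)).1 (DerSchH7.projective_stalk_of_isFinLocFree h x))

theorem stalk_shortExact {S : ShortComplex X.Modules} (hS : S.ShortExact) (x : X) : (S.map (stkF x)).ShortExact :=
  hS.map_of_exact (stkF x)

theorem PD.X₂ [IsLocallyNoetherian X] {S : ShortComplex X.Modules} (hS : S.ShortExact) {n : ℕ}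
    (h₁ : PD n S.X₁) (h₃ : PD n S.X₃) : PD n S.X₂ :=
  ⟨QCohLib.isCoh_X₂ hS h₁.1 h₃.1, fun x => (stalk_shortExact hS x).hasProjectiveDimensionLT_X₂ _ (h₁.2 x) (h₃.2 x)⟩

theorem isCoh_X₁ [IsLocallyNoetherian X] {S : ShortComplex X.Modules} (hS : S.ShortExact)
    (h₂ : Coh.IsCoh S.X₂) (h₃ : Coh.IsCoh S.X₃) : Coh.IsCoh S.X₁ := by
  haveI := hS.mono_f
  exact DCohLib.isCoh_iso (IsLimit.conePointUniqueUpToIso (kernelIsKernel S.g) hS.fIsKernel)
    (QCohLib.isCoh_kernel_cokernel S.g h₂ h₃).1

theorem PD.X₁ [IsLocallyNoetherian X] {S : ShortComplex X.Modules} (hS : S.ShortExact) {n : ℕ}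
    (h₂ : PD n S.X₂) (h₃ : PD (n + 1) S.X₃) : PD n S.X₁ :=
  ⟨isCoh_X₁ hS h₂.1 h₃.1, fun x => (stalk_shortExact hS x).hasProjectiveDimensionLT_X₁ _ (h₂.2 x) (h₃.2 x)⟩

variable [IsLocallyNoetherian X]

/-- Some bound on the dimension. -/
def PDfin : ObjectProperty X.Modules := fun M => ∃ n, PD n M

theorem hyp (hX : KRR.HasEnoughLocFree X) : K0ResLib.Hyp (KRR.vbP X) (PDfin (X := X)) where
  hle _ h := ⟨0, (pd_zero_iff _).2 h⟩
  hext₁ _ hS h₁ h₃ := by
    obtain ⟨n, h₁⟩ := h₁
    obtain ⟨m, h₃⟩ := h₃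
    exact ⟨max n m, PD.X₂ hS (h₁.mono (le_max_left _ _)) (h₃.mono (le_max_right _ _))⟩
  h1₀ _ hS h₂ h₃ := isFinLocFree_of_shortExact hS h₂ h₃
  h1₁ _ hS h₂ h₃ := by
    obtain ⟨n, h₂⟩ := h₂
    obtain ⟨m, h₃⟩ := h₃
    exact ⟨max n m, PD.X₁ hS (h₂.mono (le_max_left _ _)) (h₃.mono (by omega))⟩
  cover A hA := by
    obtain ⟨n, hA⟩ := hA
    exact hX A hA.1

theorem D_of_PD : ∀ (n : ℕ) (M : X.Modules), PD n M → K0ResLib.D (KRR.vbP X) (PDfin (X := X)) n M
  | 0, _, h => (pd_zero_iff _).1 h
  | n + 1, M, h => ⟨⟨n + 1, h⟩, fun L p hL hp => D_of_PD n (kernel p)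
      (PD.X₁ (K0ResLib.kerSC_shortExact p) (((pd_zero_iff _).2 hL).mono (Nat.zero_le n)) h)⟩

theorem hasLFRes_of_PD (hX : KRR.HasEnoughLocFree X) :
    ∀ (n : ℕ) (M : X.Modules), PD n M →
      ∃ (L : ChainComplex X.Modules ℕ) (π : L ⟶ (ChainComplex.single₀ X.Modules).obj M), KRR.IsLFRes M n L π
  | 0, M, h => ⟨(ChainComplex.single₀ X.Modules).obj M, 𝟙 _,
      { finLocFree := fun i => by
          cases i with
          | zero => exact (pd_zero_iff M).1 h
          | succ i => exact isFinLocFree_of_isZero (HomologicalComplex.isZero_single_obj_X _ 0 M (i + 1) (by omega))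
        isZero := fun i hi => HomologicalComplex.isZero_single_obj_X _ 0 M i (by omega)
        quasiIso := inferInstance }⟩
  | n + 1, M, h => by
    obtain ⟨E, p, hE, hp⟩ := hX M h.1
    obtain ⟨L, π, hL⟩ := hasLFRes_of_PD hX n (kernel p)
      (PD.X₁ (K0ResLib.kerSC_shortExact p) (((pd_zero_iff _).2 hE).mono (Nat.zero_le n)) h)
    haveI := hL.quasiIso
    let π₀ : L.X 0 ⟶ kernel p := π.f 0
    have hπd : L.d 1 0 ≫ π₀ = 0 := by
      rw [← π.comm 1 0]
      simp
    have h0 : (ShortComplex.mk (L.d 1 0) π₀ hπd).Exact ∧ Epi π₀ := by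
      have := (ChainComplex.quasiIsoAt₀_iff π).1 inferInstance
      rw [ShortComplex.quasiIso_iff_of_zeros' _ (by simp) (by simp) (by simp)] at this
      exact (ShortComplex.exact_and_epi_g_iff_of_iso (ShortComplex.isoMk (Iso.refl _) (Iso.refl _) (Iso.refl _)
        (by simp) (by simp [π₀]))).1 this
    let f : L.X 0 ⟶ E := π₀ ≫ kernel.ι p
    let L' := ChainComplex.augment L f (by simp [f, reassoc_of% hπd])
    let π' : L' ⟶ (ChainComplex.single₀ X.Modules).obj M :=
      (ChainComplex.toSingle₀Equiv L' M).symm ⟨p, by show f ≫ p = 0; simp [f]⟩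
    refine ⟨L', π', ⟨fun i => ?_, fun i hi => ?_, ⟨fun i => ?_⟩⟩⟩
    · cases i with
      | zero => exact hE
      | succ i => exact hL.finLocFree i
    · obtain ⟨j, rfl⟩ : ∃ j, i = j + 1 := ⟨i - 1, by omega⟩
      exact hL.isZero j (by omega)
    · cases i with
      | zero =>
        haveI := hp
        rw [ChainComplex.quasiIsoAt₀_iff, ShortComplex.quasiIso_iff_of_zeros' _ (by simp) (by simp) (by simp)]
        refine (ShortComplex.exact_and_epi_g_iff_of_iso (ShortComplex.isoMk (Iso.refl _) (Iso.refl _) (Iso.refl _)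
          ?_ ?_)).2 (⟨?_, hp⟩ : (ShortComplex.mk f p (by simp [f])).Exact ∧ Epi p)
        · simp [L', f]
        · simp [π', L', ChainComplex.toSingle₀Equiv]
        · haveI := h0.2
          let φ : ShortComplex.mk f p (by simp [f]) ⟶ K0ResLib.kerSC p :=
            { τ₁ := π₀, τ₂ := 𝟙 _, τ₃ := 𝟙 _ }
          haveI : Epi φ.τ₁ := h0.2
          haveI : IsIso φ.τ₂ := inferInstanceAs (IsIso (𝟙 _))
          haveI : Mono φ.τ₃ := inferInstanceAs (Mono (𝟙 _))
          exact (ShortComplex.exact_iff_of_epi_of_isIso_of_mono φ).2 (K0ResLib.kerSC_shortExact p).exact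
      | succ i =>
        rw [quasiIsoAt_iff_exactAt']
        swap
        · exact ChainComplex.exactAt_succ_single_obj M i
        cases i with
        | zero =>
          rw [HomologicalComplex.exactAt_iff' _ 2 1 0 (by simp) (by simp)]
          let φ : ShortComplex.mk (L.d 1 0) π₀ hπd ⟶ L'.sc' 2 1 0 :=
            { τ₁ := 𝟙 _, τ₂ := 𝟙 _, τ₃ := kernel.ι p
              comm₁₂ := by simp [L']
              comm₂₃ := by simp [L', f] }
          haveI : Epi φ.τ₁ := inferInstanceAs (Epi (𝟙 _))
          haveI : IsIso φ.τ₂ := inferInstanceAs (IsIso (𝟙 _))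
          haveI : Mono φ.τ₃ := inferInstanceAs (Mono (kernel.ι p))
          exact (ShortComplex.exact_iff_of_epi_of_isIso_of_mono φ).1 h0.1
        | succ j =>
          rw [HomologicalComplex.exactAt_iff' _ (j + 3) (j + 2) (j + 1) (by simp) (by simp)]
          have hq : QuasiIsoAt π (j + 1) := inferInstance
          rw [quasiIsoAt_iff_exactAt' _ _ (ChainComplex.exactAt_succ_single_obj _ j)] at hq
          rw [HomologicalComplex.exactAt_iff' _ (j + 2) (j + 1) j (by simp) (by simp)] at hq
          exact ShortComplex.exact_of_iso (ShortComplex.isoMk (Iso.refl _) (Iso.refl _) (Iso.refl _)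
            (by simp [L']) (by simp [L'])) hq

theorem PDfin_of_hasLFRes {M : X.Modules} (hM : Coh.IsCoh M) (h : KRR.HasLFRes M) : PDfin M := by
  obtain ⟨n, L, π, hL⟩ := h
  haveI := hL.quasiIso
  refine ⟨n, hM, fun x => ?_⟩
  have hex : ∀ i, L.ExactAt (i + 1) := fun i => by
    have hq : QuasiIsoAt π (i + 1) := inferInstance
    rwa [quasiIsoAt_iff_exactAt' _ _ (ChainComplex.exactAt_succ_single_obj _ i)] at hq
  have hproj : ∀ i, Projective ((stkF x).obj (L.X i)) := fun i => by
    exact (IsProjective.iff_projective ((stkF x).obj (L.X i))).1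
      (DerSchH7.projective_stalk_of_isFinLocFree (hL.finLocFree i) x)
  have key : ∀ (k i : ℕ), i + k = n → HasProjectiveDimensionLE ((stkF x).obj (L.opcycles i)) k := by
    intro k
    induction k with
    | zero =>
      intro i hi
      haveI : IsIso (L.pOpcycles i) := L.isIso_pOpcycles (i + 1) i (by simp) ((hL.isZero (i + 1) (by omega)).eq_of_src _ _)
      haveI := hproj i
      haveI : Projective ((stkF x).obj (L.opcycles i)) :=
        Projective.of_iso ((stkF x).mapIso (asIso (L.pOpcycles i))) inferInstance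
      exact (projective_iff_hasProjectiveDimensionLE_zero _).1 inferInstance
    | succ k ih =>
      intro i hi
      let S := ShortComplex.mk (L.fromOpcycles (i + 1) i) (L.pOpcycles i) (by
        rw [← cancel_epi (L.pOpcycles (i + 1)), L.p_fromOpcycles_assoc, L.d_pOpcycles, comp_zero])
      have hS : S.ShortExact := by
        haveI : Mono S.f := Preadditive.mono_of_cancel_zero _ fun {W} z hz => by
          obtain ⟨w, hw⟩ := KernelFork.IsLimit.lift' (L.homologyIsKernel (i + 1) i (by simp)) z hz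
          rw [← hw, ((HomologicalComplex.exactAt_iff_isZero_homology _ _).1 (hex i)).eq_of_tgt w 0, zero_comp]
        haveI : Epi S.g := inferInstanceAs (Epi (L.pOpcycles i))
        let T := ShortComplex.mk (L.d (i + 1) i) (L.pOpcycles i) (L.d_pOpcycles (i + 1) i)
        have hT : T.Exact := ShortComplex.exact_of_g_is_cokernel _ (L.opcyclesIsCokernel (i + 1) i (by simp))
        let φ : T ⟶ S := { τ₁ := L.pOpcycles (i + 1), τ₂ := 𝟙 _, τ₃ := 𝟙 _ }
        haveI : Epi φ.τ₁ := inferInstanceAs (Epi (L.pOpcycles (i + 1)))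
        haveI : IsIso φ.τ₂ := inferInstanceAs (IsIso (𝟙 _))
        haveI : Mono φ.τ₃ := inferInstanceAs (Mono (𝟙 _))
        exact { exact := (ShortComplex.exact_iff_of_epi_of_isIso_of_mono φ).1 hT }
      haveI : Projective (S.map (stkF x)).X₂ := hproj i
      exact (stalk_shortExact hS x).hasProjectiveDimensionLT_X₃ _ (ih (i + 1) (by omega)) inferInstance
  haveI := key n 0 (by omega)
  have e : L.opcycles 0 ≅ M :=
    (asIso (L.homologyι 0)).symm ≪≫ (asIso (HomologicalComplex.homologyMap π 0) : _) ≪≫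
      HomologicalComplex.singleObjHomologySelfIso _ 0 M
  exact (hasProjectiveDimensionLT_of_iso ((stkF x).mapIso e) (n + 1))

end Groth.Agent.KRRAmple
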